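import Groth.Agent.QCart13.Base

/-!
# Finite affine coverings of affine objects of a small etale site
-/

set_option autoImplicit false
set_option backward.isDefEq.respectTransparency false
set_option backward.isDefEq.respectTransparency.types false

noncomputable section

universe u

open CategoryTheory CategoryTheory.Limits AlgebraicGeometry Opposite AlgSp TensorProduct

namespace Groth.Agent.QCart13

variable {S : Scheme.{u}} {X : Sp S}

theorem isOpenMap_left {E E' : EtOver X} (g : E ⟶ E') : IsOpenMap g.hom.left.left := by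
  haveI := EtOver.etale_left g
  exact g.hom.left.left.isOpenMap

/-- A covering sieve reaches every point. -/
theorem exists_mem_range {E : EtOver X} {R : Sieve E} (hR : R ∈ etTop X E) (x : ↥E.obj.left.left) :
    ∃ (Y : EtOver X) (f : Y ⟶ E), R f ∧ x ∈ Set.range f.hom.left.left := by
  obtain ⟨P, hP, hPR⟩ := (etPre X).mem_toGrothendieck_iff_of_isStableUnderComposition.1 hR
  obtain ⟨ι, Y, g, rfl⟩ := P.exists_eq_ofArrows
  obtain ⟨i, hi⟩ := (ofArrows_mem_etPre_iff Y g).1 hP x
  exact ⟨Y i, g i, hPR _ _ (Presieve.ofArrows.mk i), hi⟩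

/-- A sieve reaching every point covers. -/
theorem mem_etTop_of_exists {E : EtOver X} (R : Sieve E)
    (h : ∀ x : ↥E.obj.left.left, ∃ (Y : EtOver X) (f : Y ⟶ E), R f ∧ x ∈ Set.range f.hom.left.left) :
    R ∈ etTop X E := by
  choose Y f hf hx using h
  refine GrothendieckTopology.superset_covering _ ?_ (AlgSpDec.ofArrows_mem_etTop Y f fun x => ⟨x, hx x⟩)
  rw [Sieve.ofArrows, Sieve.generate_le_iff]
  rintro _ _ ⟨x⟩
  exact hf x

/-- Every point of an object lies in an affine open subobject. -/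
theorem exists_aff_open (Y : EtOver X) (y : ↥Y.obj.left.left) :
    ∃ (W : EtOver X) (j : W ⟶ Y), Aff W ∧ y ∈ Set.range j.hom.left.left := by
  obtain ⟨O, hO, hyO, -⟩ := exists_isAffineOpen_mem_and_subset (U := (⊤ : Y.obj.left.left.Opens)) (x := y) trivial
  exact ⟨AlgSpDec.etOpen Y O, AlgSpDec.etOpenι Y O, hO, (AlgSpDec.range_etOpenι Y O).symm.subset hyO⟩

/-- A finite jointly surjective family of affine objects over an object. -/
structure Cov (E : EtOver X) where
  n : ℕ
  T : Fin n → Over E
  aff : ∀ i, Aff (T i).left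
  surj : ∀ x : ↥E.obj.left.left, ∃ i, x ∈ Set.range (T i).hom.hom.left.left

theorem exists_cov {E : EtOver X} (hE : Aff E) {R : Sieve E} (hR : R ∈ etTop X E) :
    ∃ c : Cov E, ∀ i, R (c.T i).hom := by
  have : IsAffine E.obj.left.left := hE
  have key : ∀ x : ↥E.obj.left.left, ∃ T : Over E, Aff T.left ∧ R T.hom ∧ x ∈ Set.range T.hom.hom.left.left := by
    intro x
    obtain ⟨Y, f, hf, y, hy⟩ := exists_mem_range hR x
    obtain ⟨W, j, hW, w, hw⟩ := exists_aff_open Y y
    exact ⟨Over.mk (j ≫ f), hW, R.downward_closed hf j, w,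
      (Scheme.Hom.comp_apply j.hom.left.left f.hom.left.left w).trans ((congrArg _ hw).trans hy)⟩
  choose T hT hRT hx using key
  obtain ⟨s, hs⟩ := IsCompact.elim_finite_subcover (CompactSpace.isCompact_univ (X := ↥E.obj.left.left))
    (fun x => Set.range (T x).hom.hom.left.left) (fun x => (isOpenMap_left (T x).hom).isOpen_range)
    (fun x _ => Set.mem_iUnion.2 ⟨x, hx x⟩)
  refine ⟨⟨s.card, fun i => T (s.equivFin.symm i), fun i => hT _, fun x => ?_⟩, fun i => hRT _⟩
  obtain ⟨z, hz, hxz⟩ := Set.mem_iUnion₂.1 (hs (Set.mem_univ x))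
  exact ⟨s.equivFin ⟨z, hz⟩, by rw [Equiv.symm_apply_apply]; exact hxz⟩

namespace Cov

variable {E : EtOver X} (c : Cov E)

/-- The pullback of a covering. -/
def pullback {E' : EtOver X} (g : E' ⟶ E) (hE : Aff E) (hE' : Aff E') : Cov E' where
  n := c.n
  T i := Over.mk (EtOver.pullbackFst g (c.T i).hom)
  aff i := by
    have : IsAffine ((EtOver.toScheme X).obj E') := hE'
    have : IsAffine ((EtOver.toScheme X).obj E) := hE
    have : IsAffine ((EtOver.toScheme X).obj (c.T i).left) := c.aff i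
    exact IsAffine.of_isPullback ((EtOver.isPullback g (c.T i).hom).map (EtOver.toScheme X))
  surj x := by
    obtain ⟨i, w, hw⟩ := c.surj (g.hom.left.left x)
    have sq := (EtOver.isPullback g (c.T i).hom).map (EtOver.toScheme X)
    obtain ⟨z, hz, -⟩ := Scheme.Pullback.exists_preimage_pullback (f := g.hom.left.left)
      (g := (c.T i).hom.hom.left.left) x w hw.symm
    refine ⟨i, sq.isoPullback.inv z, ?_⟩
    exact (Scheme.Hom.comp_apply _ _ z).symm.trans
      ((congrArg (fun j : CategoryTheory.Limits.pullback g.hom.left.left (c.T i).hom.hom.left.left ⟶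
        E'.obj.left.left => j z) sq.isoPullback_inv_fst).trans hz)

theorem sieve_mem : Sieve.ofArrows (fun i => (c.T i).left) (fun i => (c.T i).hom) ∈ etTop X E :=
  AlgSpDec.ofArrows_mem_etTop _ _ c.surj

theorem jointlySurj (hE : Aff E) : JointlySurj (fun i => Fn (c.T i).left) (Fn E) := by
  have : IsAffine E.obj.left.left := hE
  intro m hm
  obtain ⟨i, y, hy⟩ := c.surj (E.obj.left.left.isoSpec.inv (⟨m, hm.isPrime⟩ : PrimeSpectrum (Fn E)))
  refine ⟨i, fun htop => ?_⟩
  let T := (c.T i).left.obj.left.left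
  have : IsAffine T := c.aff i
  let f : T ⟶ E.obj.left.left := (c.T i).hom.hom.left.left
  have h2 : Spec.map f.appTop (T.isoSpec.hom y) = E.obj.left.left.isoSpec.hom (f y) := by
    rw [← Scheme.Hom.comp_apply, ← Scheme.Hom.comp_apply, Scheme.isoSpec_hom_naturality]
  have h4 : E.obj.left.left.isoSpec.hom (f y) = (⟨m, hm.isPrime⟩ : PrimeSpectrum (Fn E)) :=
    (congrArg _ hy).trans ((Scheme.Hom.comp_apply _ _ _).symm.trans
      (congrArg (fun j : Spec Γ(E.obj.left.left, ⊤) ⟶ Spec Γ(E.obj.left.left, ⊤) => j _) E.obj.left.left.isoSpec.inv_hom_id))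
  replace h2 := h2.trans h4
  have h3 : m = (T.isoSpec.hom y).asIdeal.comap f.appTop.hom :=
    (congrArg PrimeSpectrum.asIdeal h2).symm
  exact (T.isoSpec.hom y).isPrime.ne_top (top_le_iff.1 (htop.symm.le.trans (Ideal.map_le_iff_le_comap.2 h3.le)))

variable (M : ModEt X)

/-- Sections are determined on a covering. -/
theorem ext {x : sectModEt M E} (h : ∀ i, res M (c.T i).hom x = 0) : x = 0 := by
  have hs := (isSheaf_iff_isSheaf_of_type _ _).1
    ((Presheaf.isSheaf_iff_isSheaf_forget (etTop X) M.val.presheaf (CategoryTheory.forget AddCommGrpCat.{u + 1})).1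
      M.isSheaf) _ c.sieve_mem
  refine hs.isSeparatedFor.ext fun Y f hf => ?_
  obtain ⟨i, k, rfl⟩ := (Sieve.mem_ofArrows_iff _ _ _).1 hf
  change res M (k ≫ (c.T i).hom) x = res M (k ≫ (c.T i).hom) 0
  rw [res_comp, h, map_zero, map_zero]

/-- Compatible sections on a covering glue. -/
theorem glue (v : ∀ i, sectModEt M (c.T i).left)
    (hv : ∀ i j, res M (bxFst (c.T i) (c.T j)).left (v i) = res M (bxSnd (c.T i) (c.T j)).left (v j)) :
    ∃ x, ∀ i, res M (c.T i).hom x = v i := by
  have hs := (Presieve.isSheafFor_iff_generate _).2 ((isSheaf_iff_isSheaf_of_type _ _).1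
    ((Presheaf.isSheaf_iff_isSheaf_forget (etTop X) M.val.presheaf (CategoryTheory.forget AddCommGrpCat.{u + 1})).1
      M.isSheaf) _ c.sieve_mem)
  obtain ⟨t, ht, -⟩ := (Presieve.isSheafFor_arrows_iff _ _).1 hs v fun i j Y a b hab => by
    let sq := isPullback_bx (c.T i) (c.T j)
    change res M a (v i) = res M b (v j)
    conv_lhs => rw [← sq.lift_fst a b hab]
    conv_rhs => rw [← sq.lift_snd a b hab]
    rw [res_comp, res_comp, hv]
  exact ⟨t, ht⟩

end Cov

end Groth.Agent.QCart13

end
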