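import Groth.Agent.QCart13.Crit
import Mathlib.LinearAlgebra.DirectSum.TensorProduct

/-!
# Kernels, cokernels, sums and extensions of modules with base changes as affine values
-/

set_option autoImplicit false
set_option backward.isDefEq.respectTransparency false
set_option backward.isDefEq.respectTransparency.types false

noncomputable section

universe u

open CategoryTheory CategoryTheory.Limits AlgebraicGeometry Opposite AlgSp TensorProduct

namespace Groth.Agent.QCart13

variable {S : Scheme.{u}} {X : Sp S}

section basic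

variable {M N P : ModEt X} {E : EtOver X}

/-- The comparison map to the sections over an object over `E`. -/
abbrev bcMor (M : ModEt X) (T : Over E) : Fn T.left ⊗[Fn E] sectModEt M E →ₗ[Fn T.left] sectModEt M T.left :=
  (res₀ M T).liftBaseChange (Fn T.left)

theorem bijective_bcMor (hM : Cart M E) (T : Over E) (hT : Aff T.left) : Function.Bijective (bcMor M T) :=
  (isBaseChange_iff_bijective _).1 ((isBC_iff M T).1 (hM _ T.hom hT))

theorem appL_appL (φ : M ⟶ N) (ψ : N ⟶ P) (E : EtOver X) (x : sectModEt M E) :
    appL ψ E (appL φ E x) = appL (φ ≫ ψ) E x := rfl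

theorem injective_appL (φ : M ⟶ N) [Mono φ] (E : EtOver X) : Function.Injective (appL φ E) := by
  have : Mono ((SheafOfModules.evaluation (OEtRing X) (op E)).map φ) := inferInstance
  have h : Function.Injective (φ.val.app (op E)).hom := (ModuleCat.mono_iff_injective _).1 this
  exact h

theorem appL_bcMor (φ : M ⟶ N) (T : Over E) (z : Fn T.left ⊗[Fn E] sectModEt M E) :
    appL φ T.left (bcMor M T z) = bcMor N T ((appL φ E).lTensor (Fn T.left) z) := by
  induction z using TensorProduct.induction_on with
  | zero => simp
  | add x y hx hy => simp only [map_add, hx, hy]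
  | tmul a m =>
    rw [LinearMap.lTensor_tmul, LinearMap.liftBaseChange_tmul, LinearMap.liftBaseChange_tmul, map_smul,
      res₀_apply, res₀_apply, res_appL]

theorem theta_id (T : Over E) (z : Fn T.left ⊗[Fn E] sectModEt M E) :
    theta M LinearMap.id T z = bcMor M T z := rfl

end basic

section exact

variable {K F G : ModEt X} {E : EtOver X}

/-- Kernels have base changes as affine values. -/
theorem cart_ker (hE : Aff E) (κ : K ⟶ F) [Mono κ] (φ : F ⟶ G) (hκ : κ ≫ φ = 0)
    (hlift : ∀ (W : EtOver X) (x : sectModEt F W), appL φ W x = 0 → ∃ y, appL κ W y = x)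
    (hF : Cart F E) (hG : Cart G E) : Cart K E := by
  refine cart_of_locally hE (ι := LinearMap.id) (fun T hT z hz => ?_) (fun T hT s => ?_)
  · have : Module.Flat (Fn E) (Fn T.left) := flat_over hE hT
    have hz' : z = 0 := by
      refine Module.Flat.lTensor_preserves_injective_linearMap (appL κ E) (injective_appL κ E) ?_
      refine (bijective_bcMor hF T hT).1 ?_
      rw [← appL_bcMor, ← appL_bcMor, ← theta_id, hz]
      simp only [map_zero]
    exact ⟨⊤, (etTop X).top_mem _, fun T' h _ _ => by rw [hz', map_zero]⟩
  · have : Module.Flat (Fn E) (Fn T.left) := flat_over hE hT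
    obtain ⟨z, hz⟩ := (bijective_bcMor hF T hT).2 (appL κ T.left s)
    have h0 : (appL φ E).lTensor (Fn T.left) z = 0 := by
      refine (bijective_bcMor hG T hT).1 ?_
      rw [← appL_bcMor, hz, appL_appL, hκ, map_zero]
      rfl
    have hex : Function.Exact (appL κ E) (appL φ E) := fun x =>
      ⟨hlift E x, fun ⟨y, hy⟩ => by rw [← hy, appL_appL, hκ]; rfl⟩
    obtain ⟨w, hw⟩ := ((Module.Flat.lTensor_exact (Fn T.left) hex) z).1 h0
    refine ⟨⊤, (etTop X).top_mem _, fun T' h _ _ => ⟨(fnT h).rTensor _ w, ?_⟩⟩
    rw [← res_theta, theta_id]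
    refine congrArg _ (injective_appL κ T.left ?_)
    rw [appL_bcMor, hw, hz]

/-- Images of a morphism. -/
def rangeSub (φ : F ⟶ G) : G.val.Submodule where
  obj W := LinearMap.range (φ.val.app W).hom
  map {W V} f := by
    rintro _ ⟨x, rfl⟩
    exact ⟨F.val.map f x, PresheafOfModules.naturality_apply φ.val f x⟩

/-- An epimorphism is locally surjective. -/
theorem exists_local_preimage (φ : F ⟶ G) [Epi φ] {W : EtOver X} (s : sectModEt G W) :
    ∃ R ∈ etTop X W, ∀ (V : EtOver X) (f : V ⟶ W), R f → ∃ y, appL φ V y = res G f s :=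
  ⟨_, Gen.memSieve_mem_of_joint (fun _ : PUnit.{1} => φ) (fun h h' e => (cancel_epi φ).1 (e ⟨⟩)) (rangeSub φ)
    (fun _ V d => ⟨d, rfl⟩) s, fun _ _ hf => hf⟩

/-- Cokernels have base changes as affine values. -/
theorem cart_coker (hE : Aff E) (φ : F ⟶ G) (π : G ⟶ K) [Epi π] (hπ : φ ≫ π = 0)
    (hlift : ∀ (W : EtOver X) (y : sectModEt G W), appL π W y = 0 →
      ∃ R ∈ etTop X W, ∀ (V : EtOver X) (f : V ⟶ W), R f → ∃ x, appL φ V x = res G f y)
    (hF : Cart F E) (hG : Cart G E) : Cart K E := by
  let ι : (sectModEt G E ⧸ LinearMap.range (appL φ E)) →ₗ[Fn E] sectModEt K E :=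
    (LinearMap.range (appL φ E)).liftQ (appL π E) (by
      rintro _ ⟨x, rfl⟩
      rw [LinearMap.mem_ker, appL_appL, hπ]
      rfl)
  let q := (LinearMap.range (appL φ E)).mkQ
  have hθ : ∀ (T : Over E) (y : Fn T.left ⊗[Fn E] sectModEt G E),
      theta K ι T (q.lTensor (Fn T.left) y) = appL π T.left (bcMor G T y) := by
    intro T y
    induction y using TensorProduct.induction_on with
    | zero => simp
    | add a b ha hb => simp only [map_add, ha, hb]
    | tmul a m =>
      rw [LinearMap.lTensor_tmul, theta_tmul, LinearMap.liftBaseChange_tmul, map_smul, res₀_apply]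
      exact congrArg (a • ·) (res_appL π T.hom m)
  refine cart_of_locally hE (ι := ι) (fun T hT z hz => ?_) (fun T hT s => ?_)
  · obtain ⟨y, rfl⟩ := LinearMap.lTensor_surjective (Fn T.left) (Submodule.mkQ_surjective _) z
    rw [hθ] at hz
    obtain ⟨R, hR, h⟩ := hlift _ _ hz
    refine ⟨R, hR, fun T' f hT' hf => ?_⟩
    obtain ⟨x, hx⟩ := h _ f.left hf
    obtain ⟨w, hw⟩ := (bijective_bcMor hF T' hT').2 x
    have he : (fnT f).rTensor _ y = (appL φ E).lTensor (Fn T'.left) w := by
      refine (bijective_bcMor hG T' hT').1 ?_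
      rw [← appL_bcMor, hw, hx]
      exact (res_theta G LinearMap.id f y).symm
    have hc : (fnT f).rTensor _ (q.lTensor (Fn T.left) y) = q.lTensor (Fn T'.left) ((fnT f).rTensor _ y) := by
      rw [← LinearMap.comp_apply, LinearMap.rTensor_comp_lTensor, ← LinearMap.lTensor_comp_rTensor,
        LinearMap.comp_apply]
    rw [hc, he, ← LinearMap.lTensor_comp_apply,
      show q ∘ₗ appL φ E = 0 from LinearMap.ext fun p => (Submodule.Quotient.mk_eq_zero _).2 ⟨p, rfl⟩]
    simp
  · obtain ⟨R, hR, h⟩ := exists_local_preimage π s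
    refine ⟨R, hR, fun T' f hT' hf => ?_⟩
    obtain ⟨y, hy⟩ := h _ f.left hf
    obtain ⟨w, hw⟩ := (bijective_bcMor hG T' hT').2 y
    exact ⟨q.lTensor (Fn T'.left) w, by rw [hθ, hw, hy]⟩

end exact

section sum

variable {J : Type u} (D : J → ModEt X) [HasCoproduct D] {E : EtOver X}

/-- The sum of the images. -/
def iSupSub {M : ModEt X} (f : ∀ j, D j ⟶ M) : M.val.Submodule where
  obj W := ⨆ j, (rangeSub (f j)).obj W
  map {W V} g := iSup_le fun j => ((rangeSub (f j)).map g).trans
    (Submodule.comap_mono (le_iSup (fun j => (rangeSub (f j)).obj V) j))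

open Classical in
/-- A projection of a coproduct. -/
def projSigma (j : J) : ∐ D ⟶ D j :=
  Sigma.desc fun i => if h : i = j then eqToHom (congrArg D h) else 0

theorem ι_projSigma_self (j : J) : Sigma.ι D j ≫ projSigma D j = 𝟙 _ := by simp [projSigma]

theorem ι_projSigma_ne {i j : J} (h : i ≠ j) : Sigma.ι D i ≫ projSigma D j = 0 := by simp [projSigma, h]

/-- Coproducts have base changes as affine values. -/
theorem cart_sigma (hE : Aff E) (hD : ∀ j, Cart (D j) E) : Cart (∐ D) E := by
  classical
  let ι : (DirectSum J fun j => sectModEt (D j) E) →ₗ[Fn E] sectModEt (∐ D) E :=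
    DirectSum.toModule (Fn E) J _ fun j => appL (Sigma.ι D j) E
  refine cart_of_locally hE (ι := ι) (fun T hT z hz => ?_) (fun T hT s => ?_)
  · have key : ∀ (j : J) (z : Fn T.left ⊗[Fn E] DirectSum J fun j => sectModEt (D j) E),
        appL (projSigma D j) T.left (theta (∐ D) ι T z) =
          bcMor (D j) T ((DirectSum.component (Fn E) J _ j).lTensor (Fn T.left) z) := by
      intro j z
      induction z using TensorProduct.induction_on with
      | zero => simp
      | add x y hx hy => simp only [map_add, hx, hy]
      | tmul a m =>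
        rw [theta_tmul, map_smul, LinearMap.lTensor_tmul, LinearMap.liftBaseChange_tmul, res₀_apply, ← res_appL]
        congr 2
        induction m using DirectSum.induction_on with
        | zero => simp
        | add x y hx hy => simp only [map_add, hx, hy]
        | of i x =>
          rw [← DirectSum.lof_eq_of (Fn E)]
          simp only [ι, DirectSum.toModule_lof]
          rw [appL_appL]
          by_cases h : i = j
          · subst h
            rw [ι_projSigma_self, DirectSum.component.lof_self]
            rfl
          · rw [ι_projSigma_ne D h, DirectSum.component.of, dif_neg h]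
            rfl
    have hz' : z = 0 := by
      refine (TensorProduct.directSumRight (Fn E) (Fn E) (Fn T.left) fun j => sectModEt (D j) E).injective ?_
      rw [map_zero]
      refine DirectSum.ext_component (Fn E) fun j => ?_
      have h0 : (DirectSum.component (Fn E) J _ j).lTensor (Fn T.left) z = 0 :=
        (bijective_bcMor (hD j) T hT).1 (by rw [← key, hz, map_zero, map_zero])
      rw [map_zero]
      refine Eq.trans ?_ h0
      clear hz key h0
      induction z using TensorProduct.induction_on with
      | zero => simp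
      | add x y hx hy => simp only [map_add, hx, hy]
      | tmul a m => exact TensorProduct.directSumRight_tmul (R := Fn E) (S := Fn E) a m j
    exact ⟨⊤, (etTop X).top_mem _, fun T' h _ _ => by rw [hz', map_zero]⟩
  · let f : ∀ j, D j ⟶ ∐ D := Sigma.ι D
    have hcov := Gen.memSieve_mem_of_joint f (fun h h' e => Sigma.hom_ext _ _ e) (iSupSub D f)
      (fun j V d => Submodule.mem_iSup_of_mem j ⟨d, rfl⟩) s
    refine ⟨_, hcov, fun T' g hT' hg => ?_⟩
    refine Submodule.iSup_induction (fun j => (rangeSub (f j)).obj (op T'.left))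
      (motive := fun x => x ∈ LinearMap.range (theta (∐ D) ι T'))
      (hx := hg) ?_ (zero_mem _) (fun x y hx hy => add_mem hx hy)
    rintro j _ ⟨y, rfl⟩
    obtain ⟨w, hw⟩ := (bijective_bcMor (hD j) T' hT').2 y
    refine ⟨(DirectSum.lof (Fn E) J _ j).lTensor (Fn T'.left) w, ?_⟩
    change _ = appL (f j) T'.left y
    rw [← hw]
    clear hw
    induction w using TensorProduct.induction_on with
    | zero => simp
    | add x y hx hy => simp only [map_add, hx, hy]
    | tmul a m =>
      rw [LinearMap.lTensor_tmul, theta_tmul, LinearMap.liftBaseChange_tmul, map_smul, res₀_apply, ← res_appL]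
      simp only [ι, DirectSum.toModule_lof]
      rfl

end sum

end Groth.Agent.QCart13

end
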