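import Mathlib.Algebra.Category.ModuleCat.Sheaf.Quasicoherent
import Mathlib.Algebra.Category.ModuleCat.Sheaf.Limits
import Mathlib.Algebra.Category.ModuleCat.Presheaf.Submodule
import Mathlib.LinearAlgebra.Finsupp.LinearCombination

/-!
# Local membership in submodules of sheaves of modules

The sections locally lying in a family of submodules form a subsheaf; hence a jointly epimorphic
family of morphisms generates every section locally.
-/

set_option autoImplicit false
set_option backward.isDefEq.respectTransparency false
set_option backward.isDefEq.respectTransparency.types false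

noncomputable section

universe u

open CategoryTheory CategoryTheory.Limits Opposite

namespace Groth.Agent.QCart13.Gen

variable {C : Type (u + 1)} [Category.{u} C] {J : GrothendieckTopology C} {R : Sheaf J RingCat.{u + 1}}
  {M : SheafOfModules.{u + 1} R}

/-- Restriction of sections. -/
def mres (M : SheafOfModules.{u + 1} R) {W U : C} (f : W ⟶ U) : M.val.obj (op U) →+ M.val.obj (op W) :=
  (M.val.presheaf.map f.op).hom

theorem mres_smul (M : SheafOfModules.{u + 1} R) {W U : C} (f : W ⟶ U) (r : R.obj.obj (op U)) (x : M.val.obj (op U)) :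
    mres M f (r • x) = R.obj.map f.op r • mres M f x :=
  M.val.map_smul f.op r x

theorem mres_app {M N : SheafOfModules.{u + 1} R} (φ : M ⟶ N) {W U : C} (f : W ⟶ U) (x : M.val.obj (op U)) :
    mres N f (φ.val.app (op U) x) = φ.val.app (op W) (mres M f x) :=
  (PresheafOfModules.naturality_apply φ.val f.op x).symm

theorem mres_sections {M : SheafOfModules.{u + 1} R} (s : M.sections) {W U : C} (f : W ⟶ U) :
    mres M f (s.eval (op U)) = s.eval (op W) :=
  PresheafOfModules.sections_property s f.op

theorem map_comp_apply (M : SheafOfModules.{u + 1} R) {W V U : C} (g : V ⟶ W) (f : W ⟶ U) (x : M.val.obj (op U)) :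
    mres M (g ≫ f) x = mres M g (mres M f x) :=
  ConcreteCategory.congr_hom (M.val.presheaf.map_comp f.op g.op) x

theorem eq_zero_of_local (M : SheafOfModules.{u + 1} R) {W : C} (x : M.val.obj (op W)) {T : Sieve W}
    (hT : T ∈ J W) (h : ∀ ⦃V : C⦄ (f : V ⟶ W), T f → mres M f x = 0) : x = 0 := by
  have hM := ((isSheaf_iff_isSheaf_of_type _ _).1
    ((Presheaf.isSheaf_iff_isSheaf_forget J M.val.presheaf (CategoryTheory.forget AddCommGrpCat.{u + 1})).1
      M.isSheaf)) T hT
  refine hM.isSeparatedFor.ext fun V f hf => ?_
  change mres M f x = mres M f 0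
  rw [h f hf, map_zero]

/-- The sieve on which a section lies in a family of submodules. -/
def memSieve (P : M.val.Submodule) {W : C} (x : M.val.obj (op W)) : Sieve W where
  arrows V f := mres M f x ∈ P.obj (op V)
  downward_closed {Y Z f} hf g := by
    rw [map_comp_apply]
    exact P.map_mem g.op hf

theorem memSieve_apply (P : M.val.Submodule) {W V : C} (x : M.val.obj (op W)) (f : V ⟶ W) :
    memSieve P x f ↔ mres M f x ∈ P.obj (op V) := Iff.rfl

theorem memSieve_pullback (P : M.val.Submodule) {W V : C} (x : M.val.obj (op W)) (f : V ⟶ W) :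
    (memSieve P x).pullback f = memSieve P (mres M f x) := by
  refine Sieve.ext fun Z g => ?_
  rw [Sieve.pullback_apply, memSieve_apply, memSieve_apply, map_comp_apply]

/-- Sections locally lying in a family of submodules. -/
def sat (P : M.val.Submodule) : M.val.Submodule where
  obj W :=
    { carrier := {x | memSieve P (W := W.unop) x ∈ J W.unop}
      zero_mem' := J.superset_covering (fun V f _ => by
        rw [memSieve_apply, map_zero]
        exact zero_mem _) (J.top_mem _)
      add_mem' := fun {x y} hx hy => J.superset_covering (fun V f hf => by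
        rw [memSieve_apply, map_add]
        exact add_mem hf.1 hf.2) (J.intersection_covering hx hy)
      smul_mem' := fun r x hx => J.superset_covering (fun V f hf => by
        rw [memSieve_apply, mres_smul]
        exact Submodule.smul_mem _ _ hf) hx }
  map {W V} f x hx := by
    change memSieve P (W := V.unop) (mres M f.unop x) ∈ J V.unop
    rw [← memSieve_pullback]
    exact J.pullback_stable _ hx

theorem mem_sat {P : M.val.Submodule} {W : C} {x : M.val.obj (op W)} :
    x ∈ (sat P).obj (op W) ↔ memSieve P x ∈ J W := Iff.rfl

theorem le_sat (P : M.val.Submodule) {W : C} {x : M.val.obj (op W)} (hx : x ∈ P.obj (op W)) :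
    x ∈ (sat P).obj (op W) := by
  refine J.superset_covering (fun V f _ => ?_) (J.top_mem _)
  exact P.map_mem f.op hx

theorem mem_sat_of_cover {P : M.val.Submodule} {W : C} {x : M.val.obj (op W)} {T : Sieve W} (hT : T ∈ J W)
    (h : ∀ ⦃V : C⦄ (f : V ⟶ W), T f → mres M f x ∈ (sat P).obj (op V)) :
    x ∈ (sat P).obj (op W) := by
  refine J.transitive hT _ fun V f hf => ?_
  rw [memSieve_pullback]
  exact h f hf

theorem isSheaf_sat (P : M.val.Submodule) : Presheaf.IsSheaf J (sat P).toPresheafOfModules.presheaf := by
  rw [Presheaf.isSheaf_iff_isSheaf_forget J _ (CategoryTheory.forget AddCommGrpCat.{u + 1}), isSheaf_iff_isSheaf_of_type]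
  intro W T hT x hx
  have hM := ((isSheaf_iff_isSheaf_of_type _ _).1
    ((Presheaf.isSheaf_iff_isSheaf_forget J M.val.presheaf (CategoryTheory.forget AddCommGrpCat.{u + 1})).1
      M.isSheaf)) T hT
  let y : Presieve.FamilyOfElements (M.val.presheaf ⋙ CategoryTheory.forget AddCommGrpCat.{u + 1}) T.arrows :=
    fun V f hf => (x f hf).1
  have hy : y.Compatible := fun V₁ V₂ Z g₁ g₂ f₁ f₂ h₁ h₂ e => congrArg Subtype.val (hx g₁ g₂ h₁ h₂ e)
  obtain ⟨t, ht, -⟩ := hM y hy
  have htm : t ∈ (sat P).obj (op W) := mem_sat_of_cover hT fun V f hf => by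
    rw [show mres M f t = (x f hf).1 from ht f hf]
    exact (x f hf).2
  refine ⟨⟨t, htm⟩, fun V f hf => Subtype.ext (ht f hf), fun z hz => Subtype.ext ?_⟩
  refine hM.isSeparatedFor y z.1 t (fun V f hf => congrArg Subtype.val (hz f hf)) ht

/-- The subsheaf of sections locally lying in a family of submodules. -/
def satSheaf (P : M.val.Submodule) : SheafOfModules.{u + 1} R where
  val := (sat P).toPresheafOfModules
  isSheaf := isSheaf_sat P

/-- Its inclusion. -/
def satι (P : M.val.Submodule) : satSheaf P ⟶ M := ⟨(sat P).ι⟩

theorem mono_satι (P : M.val.Submodule) : Mono (satι P) := by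
  have : Mono ((SheafOfModules.forget R).map (satι P)) := inferInstanceAs (Mono (sat P).ι)
  exact (SheafOfModules.forget R).mono_of_mono_map this

/-- A morphism into a family of submodules lifts to the subsheaf. -/
def satLift (P : M.val.Submodule) {N : SheafOfModules.{u + 1} R} (f : N ⟶ M)
    (hf : ∀ (W : C) (d : N.val.obj (op W)), f.val.app (op W) d ∈ (sat P).obj (op W)) : N ⟶ satSheaf P where
  val :=
    PresheafOfModules.homMk
      { app := fun W => AddCommGrpCat.ofHom
          { toFun := fun d => (⟨f.val.app W d, hf W.unop d⟩ : (sat P).obj W)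
            map_zero' := Subtype.ext (map_zero (f.val.app W).hom)
            map_add' := fun a b => Subtype.ext (map_add (f.val.app W).hom a b) }
        naturality := fun W V g => by
          ext d
          exact Subtype.ext (PresheafOfModules.naturality_apply f.val g d) }
      fun W r d => Subtype.ext ((f.val.app W).hom.map_smul r d)

theorem satLift_ι (P : M.val.Submodule) {N : SheafOfModules.{u + 1} R} (f : N ⟶ M)
    (hf : ∀ (W : C) (d : N.val.obj (op W)), f.val.app (op W) d ∈ (sat P).obj (op W)) :
    satLift P f hf ≫ satι P = f :=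
  SheafOfModules.hom_ext (PresheafOfModules.hom_ext fun W => by ext d; rfl)

section joint

variable [HasSheafify J AddCommGrpCat.{u + 1}] [J.WEqualsLocallyBijective AddCommGrpCat.{u + 1}]

/-- Every section lies locally in submodules containing the images of a jointly epimorphic family. -/
theorem memSieve_mem_of_joint {ι : Type*} {D : ι → SheafOfModules.{u + 1} R} (f : ∀ i, D i ⟶ M)
    (hepi : ∀ {N : SheafOfModules.{u + 1} R} (h h' : M ⟶ N), (∀ i, f i ≫ h = f i ≫ h') → h = h')
    (P : M.val.Submodule) (hP : ∀ i (W : C) (d : (D i).val.obj (op W)), (f i).val.app (op W) d ∈ P.obj (op W))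
    {W : C} (x : M.val.obj (op W)) : memSieve P x ∈ J W := by
  haveI := mono_satι P
  have : Epi (satι P) := ⟨fun h h' e => hepi h h' fun i => by
    rw [← satLift_ι P (f i) fun W d => le_sat P (hP i W d), Category.assoc, Category.assoc, e]⟩
  haveI : IsIso (satι P) := isIso_of_mono_of_epi _
  have hx : ((sat P).ι.app (op W)) ((inv (satι P)).val.app (op W) x) = x :=
    congrArg (fun k : M ⟶ M => k.val.app (op W) x) (IsIso.inv_hom_id (satι P))
  exact mem_sat.1 (hx ▸ ((inv (satι P)).val.app (op W) x : (sat P).obj (op W)).2)

/-- A section killed by a morphism comes from the kernel. -/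
theorem exists_kernel_section {N : SheafOfModules.{u + 1} R} (f : M ⟶ N) {W : C} (x : M.val.obj (op W))
    (hx : f.val.app (op W) x = 0) : ∃ y, (kernel.ι f).val.app (op W) y = x := by
  let P : M.val.Submodule :=
    { obj := fun V => LinearMap.ker (f.val.app V).hom
      map := fun {V V'} g z hz => by
        change f.val.app V' (M.val.map g z) = 0
        rw [PresheafOfModules.naturality_apply]
        exact (congrArg _ (LinearMap.mem_ker.1 hz)).trans (map_zero _) }
  have hzero : satι P ≫ f = 0 := SheafOfModules.hom_ext (PresheafOfModules.hom_ext fun V => by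
    ext z
    change f.val.app V z.1 = 0
    have hN := ((isSheaf_iff_isSheaf_of_type _ _).1
      ((Presheaf.isSheaf_iff_isSheaf_forget J N.val.presheaf (CategoryTheory.forget AddCommGrpCat.{u + 1})).1
        N.isSheaf)) _ z.2
    refine hN.isSeparatedFor.ext fun V' g hg => ?_
    change N.val.map g.op (f.val.app V z.1) = N.val.map g.op 0
    rw [map_zero, ← PresheafOfModules.naturality_apply]
    exact hg)
  refine ⟨(kernel.lift f (satι P) hzero).val.app (op W) (⟨x, le_sat P hx⟩ : (sat P).obj (op W)), ?_⟩
  exact congrArg (fun k : satSheaf P ⟶ M => k.val.app (op W) (⟨x, le_sat P hx⟩ : (sat P).obj (op W)))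
    (kernel.lift_ι f (satι P) hzero)

end joint

/-- The submodules spanned by a family of sections. -/
def spanSub {ι : Type*} (σ : ι → M.sections) : M.val.Submodule where
  obj W := Submodule.span _ (Set.range fun i => (σ i).eval W)
  map {W V} g := by
    rw [Submodule.span_le]
    rintro _ ⟨i, rfl⟩
    rw [SetLike.mem_coe, Submodule.mem_comap]
    exact Submodule.subset_span ⟨i, (PresheafOfModules.sections_property (σ i) g).symm⟩

theorem mem_spanSub {ι : Type*} {σ : ι → M.sections} {W : C} {x : M.val.obj (op W)}
    (hx : x ∈ (spanSub σ).obj (op W)) :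
    ∃ v : ι →₀ R.obj.obj (op W), (v.sum fun i a => a • (σ i).eval (op W)) = x := by
  obtain ⟨v, hv⟩ := Finsupp.mem_span_range_iff_exists_finsupp.1 hx
  exact ⟨v, hv⟩

end Groth.Agent.QCart13.Gen

namespace Groth.Agent.QCart13.Gen

section free

variable {C : Type (u + 1)} [Category.{u} C] {J : GrothendieckTopology C} {R : Sheaf J RingCat.{u + 1}}
  [HasSheafify J AddCommGrpCat.{u + 1}] [J.WEqualsLocallyBijective AddCommGrpCat.{u + 1}]

theorem ιFree_app {I : Type (u + 1)} (i : I) (W : C) (d : R.obj.obj (op W)) :
    (SheafOfModules.ιFree (R := R) i).val.app (op W) d = d • (SheafOfModules.freeSection (R := R) i).eval (op W) := by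
  have h := ((SheafOfModules.ιFree (R := R) i).val.app (op W)).hom.map_smul d (1 : R.obj.obj (op W))
  rw [show d • (1 : R.obj.obj (op W)) = d from mul_one d] at h
  refine h.trans (congrArg (d • ·) ?_)
  rw [show (SheafOfModules.freeSection (R := R) i) =
    (SheafOfModules.free (R := R) I).unitHomEquiv (SheafOfModules.ιFree i ≫ 𝟙 _) from rfl, Category.comp_id]
  exact (SheafOfModules.unitHomEquiv_apply_coe _ (SheafOfModules.ιFree (R := R) i) (op W)).symm

/-- The image of a generated module is locally spanned by the generators. -/
theorem memSieve_span {I : Type (u + 1)} {M : SheafOfModules.{u + 1} R} (p : SheafOfModules.free I ⟶ M) [Epi p] {W : C}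
    (x : M.val.obj (op W)) :
    memSieve (spanSub fun i => SheafOfModules.sectionsMap p (SheafOfModules.freeSection i)) x ∈ J W := by
  refine memSieve_mem_of_joint (fun i => SheafOfModules.ιFree i ≫ p) (fun h h' e => ?_) _ (fun i V d => ?_) x
  · refine (cancel_epi p).1 (Cofan.IsColimit.hom_ext (SheafOfModules.isColimitFreeCofan I) _ _ fun i => ?_)
    simpa using e i
  · change p.val.app (op V) ((SheafOfModules.ιFree (R := R) i).val.app (op V) d) ∈ _
    rw [ιFree_app]
    change R.obj.obj (op V) at d
    have h := (p.val.app (op V)).hom.map_smul d ((SheafOfModules.freeSection (R := R) i).eval (op V))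
    refine Eq.mpr (congrArg (fun y => y ∈ _) h) (Submodule.smul_mem _ d ?_)
    exact Submodule.subset_span ⟨i, rfl⟩

/-- The section of the ring equal to one or zero. -/
def deltaSec {I : Type (u + 1)} [DecidableEq I] (i j : I) : (SheafOfModules.unit R).sections :=
  PresheafOfModules.sectionsMk (fun V => if j = i then (1 : R.obj.obj V) else 0) fun V V' g => by
    dsimp only
    split_ifs
    · exact map_one (R.obj.map g).hom
    · exact map_zero (R.obj.map g).hom

/-- A coordinate of a free module. -/
def coord {I : Type (u + 1)} [DecidableEq I] (i : I) : SheafOfModules.free (R := R) I ⟶ SheafOfModules.unit R :=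
  (SheafOfModules.freeHomEquiv _).symm (deltaSec i)

theorem coord_freeSection {I : Type (u + 1)} [DecidableEq I] (i j : I) (W : C) :
    (coord i).val.app (op W) ((SheafOfModules.freeSection (R := R) j).eval (op W)) =
      if j = i then (1 : R.obj.obj (op W)) else 0 :=
  congrArg (fun s : (SheafOfModules.unit R).sections => s.eval (op W))
    (SheafOfModules.sectionsMap_freeHomEquiv_symm_freeSection (deltaSec (R := R) i) j)

theorem coord_sum {I : Type (u + 1)} [DecidableEq I] (i : I) {W : C} (v : I →₀ R.obj.obj (op W)) :
    (coord i).val.app (op W) (v.sum fun j a => a • (SheafOfModules.freeSection (R := R) j).eval (op W)) = v i := by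
  have h : ∀ (j : I) (a : R.obj.obj (op W)),
      (coord i).val.app (op W) (a • (SheafOfModules.freeSection (R := R) j).eval (op W)) =
        if j = i then a else 0 := fun j a => by
    refine (((coord (R := R) i).val.app (op W)).hom.map_smul a _).trans ?_
    change a • (coord i).val.app (op W) ((SheafOfModules.freeSection (R := R) j).eval (op W)) = _
    rw [coord_freeSection]
    split_ifs
    · exact mul_one a
    · exact mul_zero a
  rw [Finsupp.sum, map_sum, Finset.sum_congr rfl fun j _ => h j (v j), Finset.sum_ite_eq']
  split_ifs with hi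
  · rfl
  · exact (Finsupp.notMem_support_iff.1 hi).symm

end free

end Groth.Agent.QCart13.Gen

end
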