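import Groth.Agent.QCart13.Local
import Groth.Agent.QCart13.Gen
import Groth.Prelude.Def_AlgSpD
import Mathlib.LinearAlgebra.DirectSum.Finsupp

/-!
# The affine values of a quasi-coherent module are base changes
-/

set_option autoImplicit false
set_option backward.isDefEq.respectTransparency false
set_option backward.isDefEq.respectTransparency.types false

noncomputable section

universe u

open CategoryTheory CategoryTheory.Limits AlgebraicGeometry Opposite AlgSp TensorProduct

namespace Groth.Agent.QCart13

variable {S : Scheme.{u}} {X : Sp S} {E : EtOver X}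

theorem sum_mapRange_smul {A B I N : Type*} [Semiring A] [Semiring B] [AddCommMonoid N] [Module B N]
    (f : A → B) (hf : f 0 = 0) (v : I →₀ A) (m : I → N) :
    ((v.mapRange f hf).sum fun i a => a • m i) = v.sum fun i a => f a • m i :=
  Finsupp.sum_mapRange_index fun _ => zero_smul _ _

/-- Sections of a module on a slice as modules over the functions. -/
scoped instance modOn (F : ModEtOn E) (T : Over E) : Module (Fn T.left) (F.val.obj (op T)) :=
  Module.compHom _ (upΓ T.left)

theorem mres_smulOn (F : ModEtOn E) {T T' : Over E} (h : T' ⟶ T) (a : Fn T.left) (x : F.val.obj (op T)) :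
    Gen.mres F h (a • x) = rmap h.left a • Gen.mres F h x :=
  Gen.mres_smul F h (upΓ T.left a) x

/-- A morphism of modules on a slice, over the functions. -/
def appOn {F G : ModEtOn E} (φ : F ⟶ G) (T : Over E) : F.val.obj (op T) →ₗ[Fn T.left] G.val.obj (op T) where
  toFun x := φ.val.app (op T) x
  map_add' := map_add _
  map_smul' a x := (φ.val.app (op T)).hom.map_smul (upΓ T.left a) x

theorem sieve_over {T T' : Over E} (R : Sieve T) (h : T' ⟶ T) (hR : Sieve.overEquiv T R h.left) : R h := by
  have h1 := (Sieve.overEquiv_iff _ _).1 hR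
  have := R.downward_closed h1 (Over.homMk (𝟙 T'.left) (by simp) : T' ⟶ Over.mk (h.left ≫ T.hom))
  convert this using 1
  exact Over.OverMorphism.ext (Category.id_comp _).symm

/-- A covering sieve on a slice gives a finite affine covering. -/
theorem exists_covOn {T : Over E} (hT : Aff T.left) {R : Sieve T} (hR : R ∈ (etTop X).over E T) :
    ∃ c : Cov T.left, ∀ i, R (Over.homMk (c.T i).hom rfl : cmp T (c.T i) ⟶ T) := by
  obtain ⟨c, hc⟩ := exists_cov hT ((GrothendieckTopology.mem_over_iff _ _).1 hR)
  exact ⟨c, fun i => sieve_over R _ (hc i)⟩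

section free

variable {I : Type (u + 1)}

/-- The combination of the basis of a free module. -/
def eL (T : Over E) :
    (I →₀ Fn T.left) →ₗ[Fn T.left] (SheafOfModules.free (R := OEtOn E) I : ModEtOn E).val.obj (op T) :=
  Finsupp.linearCombination (Fn T.left) fun i => (SheafOfModules.freeSection (R := OEtOn E) i).eval (op T)

theorem mres_eL {T T' : Over E} (h : T' ⟶ T) (v : I →₀ Fn T.left) :
    Gen.mres _ h (eL T v) = eL T' (v.mapRange (rmap h.left) (map_zero _)) := by
  induction v using Finsupp.induction_linear with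
  | zero => simp
  | add a b ha hb => rw [map_add, map_add, ha, hb, Finsupp.mapRange_add (map_add _), map_add]
  | single i a =>
    rw [Finsupp.mapRange_single, eL, eL, Finsupp.linearCombination_single, Finsupp.linearCombination_single,
      mres_smulOn, Gen.mres_sections]

theorem eL_eq_sum (T : Over E) (v : I →₀ Fn T.left) :
    eL T v = (v.mapRange (upΓ T.left) (map_zero _)).sum fun i a =>
      a • (SheafOfModules.freeSection (R := OEtOn E) i).eval (op T) := by
  rw [eL, Finsupp.linearCombination_apply]
  exact (sum_mapRange_smul (upΓ T.left) (map_zero _) v _).symm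

theorem coord_eL [DecidableEq I] (T : Over E) (i : I) (v : I →₀ Fn T.left) :
    (Gen.coord (R := OEtOn E) i).val.app (op T) (eL T v) = upΓ T.left (v i) := by
  rw [eL_eq_sum]
  exact (Gen.coord_sum i _).trans rfl

theorem eL_injective (T : Over E) : Function.Injective (eL (I := I) T) := by
  classical
  intro v w h
  refine Finsupp.ext fun i => ULift.ringEquiv.symm.injective ?_
  change upΓ T.left (v i) = upΓ T.left (w i)
  rw [← coord_eL, ← coord_eL, h]

/-- The spans of a family on a slice are the combinations. -/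
theorem mem_span_exists {F : ModEtOn E} {σ : I → F.sections} {T : Over E} {x : F.val.obj (op T)}
    (hx : x ∈ (Gen.spanSub σ).obj (op T)) :
    ∃ v : I →₀ Fn T.left, Finsupp.linearCombination (Fn T.left) (fun i => (σ i).eval (op T)) v = x := by
  obtain ⟨v, hv⟩ := Gen.mem_spanSub hx
  refine ⟨v.mapRange ULift.ringEquiv (map_zero _), ?_⟩
  rw [Finsupp.linearCombination_apply]
  refine Eq.trans ?_ hv
  refine (Finsupp.sum_mapRange_index fun i => zero_smul (Fn T.left) ((σ i).eval (op T))).trans ?_
  rfl

theorem eL_surjective (T : Over E) (hT : Aff T.left) : Function.Surjective (eL (I := I) T) := by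
  classical
  intro x
  have hx := Gen.memSieve_span (𝟙 (SheafOfModules.free (R := OEtOn E) I)) x
  obtain ⟨c, hc⟩ := exists_covOn hT hx
  have hv : ∀ k, ∃ v : I →₀ Fn (c.T k).left,
      eL (cmp T (c.T k)) v = Gen.mres _ (Over.homMk (c.T k).hom rfl : cmp T (c.T k) ⟶ T) x := fun k =>
    mem_span_exists (hc k)
  choose v hv using hv
  let a : I → Fn T.left := fun i => ((Gen.coord (R := OEtOn E) i).val.app (op T) x).down
  have ha : ∀ k i, rmap (c.T k).hom (a i) = v k i := fun k i => by
    have h1 := congrArg (fun y => (Gen.coord (R := OEtOn E) i).val.app (op (cmp T (c.T k))) y) (hv k)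
    simp only [coord_eL, ← Gen.mres_app] at h1
    exact (congrArg ULift.down h1).symm
  have hsupp : ∀ i, a i ≠ 0 → i ∈ Finset.univ.biUnion fun k => (v k).support := fun i hi => by
    by_contra hmem
    refine hi ?_
    have h0 : upΓ T.left (a i) = (0 : (OEtRing X).obj.obj (op T.left)) :=
      c.ext (unitModEt X) (x := (upΓ T.left (a i) : (OEtRing X).obj.obj (op T.left))) fun k => by
        change upΓ (c.T k).left (rmap (c.T k).hom (a i)) = 0
        rw [ha, show v k i = 0 from Finsupp.notMem_support_iff.1 fun h => hmem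
          (Finset.mem_biUnion.2 ⟨k, Finset.mem_univ k, h⟩), map_zero]
    exact congrArg ULift.down h0
  refine ⟨Finsupp.onFinset _ a hsupp, ?_⟩
  refine sub_eq_zero.1 (Gen.eq_zero_of_local _ _ hx fun T' h hh => ?_)
  obtain ⟨w, hw⟩ : ∃ w : I →₀ Fn T'.left, eL T' w = Gen.mres _ h x := mem_span_exists hh
  have hcoord : ∀ i, w i = rmap h.left (a i) := fun i => by
    have h1 := congrArg (fun y => (Gen.coord (R := OEtOn E) i).val.app (op T') y) hw
    simp only [coord_eL, ← Gen.mres_app] at h1
    exact congrArg ULift.down h1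
  rw [map_sub, mres_eL, ← hw, sub_eq_zero]
  congr 1
  exact Finsupp.ext fun i => by rw [Finsupp.mapRange_apply, Finsupp.onFinset_apply, hcoord]

end free

section presentation

variable {F G H : ModEtOn E} {I J : Type (u + 1)}

theorem mres_appOn (φ : F ⟶ G) {T T' : Over E} (h : T' ⟶ T) (x : F.val.obj (op T)) :
    Gen.mres G h (appOn φ T x) = appOn φ T' (Gen.mres F h x) :=
  Gen.mres_app φ h x

theorem exists_kernel_sectionOn (φ : F ⟶ G) (T : Over E) (x : F.val.obj (op T)) (hx : appOn φ T x = 0) :
    ∃ k, appOn (kernel.ι φ) T k = x :=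
  Gen.exists_kernel_section φ x hx

theorem appOn_appOn (φ : F ⟶ G) (ψ : G ⟶ H) (T : Over E) (x : F.val.obj (op T)) :
    appOn ψ T (appOn φ T x) = appOn (φ ≫ ψ) T x := rfl

/-- The images of the basis of a free module. -/
def gen (φ : SheafOfModules.free (R := OEtOn E) I ⟶ F) (T : Over E) (i : I) : F.val.obj (op T) :=
  appOn φ T ((SheafOfModules.freeSection (R := OEtOn E) i).eval (op T))

theorem appOn_gen (φ : SheafOfModules.free (R := OEtOn E) I ⟶ F) (ψ : F ⟶ G) (T : Over E) (i : I) :
    appOn ψ T (gen φ T i) = gen (φ ≫ ψ) T i :=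
  appOn_appOn φ ψ T _

theorem mres_gen (φ : SheafOfModules.free (R := OEtOn E) I ⟶ F) {T T' : Over E} (h : T' ⟶ T) (i : I) :
    Gen.mres F h (gen φ T i) = gen φ T' i := by
  rw [gen, gen, mres_appOn, Gen.mres_sections]

theorem pi_eL (φ : SheafOfModules.free (R := OEtOn E) I ⟶ F) (T : Over E) (v : I →₀ Fn T.left) :
    Finsupp.linearCombination (Fn T.left) (gen φ T) v = appOn φ T (eL T v) := by
  rw [eL, Finsupp.apply_linearCombination]
  rfl

theorem linearCombination_gen_eq_zero {φ : SheafOfModules.free (R := OEtOn E) I ⟶ F}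
    {ψ : SheafOfModules.free (R := OEtOn E) J ⟶ SheafOfModules.free I} (hψ : ψ ≫ φ = 0)
    (T : Over E) (j : J) (v : I →₀ Fn T.left) (hv : eL T v = gen ψ T j) :
    Finsupp.linearCombination (Fn T.left) (gen φ T) v = 0 := by
  rw [pi_eL, hv, appOn_gen, hψ]
  rfl

/-- Locally, every section of a generated module is a combination of the generators. -/
theorem generation_local (φ : SheafOfModules.free (R := OEtOn E) I ⟶ F) [Epi φ] (T : Over E)
    (x : F.val.obj (op T)) :
    ∃ R ∈ (etTop X).over E T, ∀ (T' : Over E) (h : T' ⟶ T), R h →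
      ∃ v, Finsupp.linearCombination (Fn T'.left) (gen φ T') v = Gen.mres F h x :=
  ⟨_, Gen.memSieve_span φ x, fun _ h hh =>
    mem_span_exists (x := Gen.mres F h x) ((Gen.memSieve_apply _ x h).1 hh)⟩

/-- Locally, a combination of the generators which vanishes is a combination of relations. -/
theorem relation_local (φ : SheafOfModules.free (R := OEtOn E) I ⟶ F) (p : SheafOfModules.free J ⟶ G) [Epi p]
    (κ : G ⟶ SheafOfModules.free (R := OEtOn E) I)
    (hlift : ∀ T x, appOn φ T x = 0 → ∃ y, appOn κ T y = x)
    {T₀ : Over E} (r : J → I →₀ Fn T₀.left) (hr : ∀ j, eL T₀ (r j) = gen (p ≫ κ) T₀ j) (T : Over E)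
    (v : I →₀ Fn T.left) (hv : Finsupp.linearCombination (Fn T.left) (gen φ T) v = 0) :
    ∃ R ∈ (etTop X).over E T, ∀ (T' : Over E) (h : T' ⟶ T) (k : T' ⟶ T₀), R h →
      ∃ w : J →₀ Fn T'.left, v.mapRange (rmap h.left) (map_zero _) =
        Finsupp.linearCombination (Fn T'.left) (fun j => (r j).mapRange (rmap k.left) (map_zero _)) w := by
  obtain ⟨y, hy⟩ := hlift T (eL T v) ((pi_eL φ T v).symm.trans hv)
  obtain ⟨R, hR, hgen⟩ := generation_local p T y
  refine ⟨R, hR, fun T' h k hh => ?_⟩
  obtain ⟨w, hw⟩ := hgen T' h hh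
  refine ⟨w, eL_injective T' ?_⟩
  rw [← mres_eL, ← hy, mres_appOn, ← hw, Finsupp.apply_linearCombination, Finsupp.apply_linearCombination]
  refine congrArg (fun g => Finsupp.linearCombination (Fn T'.left) g w) (funext fun j => ?_)
  simp only [Function.comp_apply]
  rw [appOn_gen, ← mres_eL, hr, mres_gen]

end presentation

/-- The structure map of an object over an object over `E`. -/
def cmpHom (T₀ : Over E) (T : Over T₀.left) : cmp T₀ T ⟶ T₀ := Over.homMk T.hom rfl

/-- Morphisms over an object over `E`, over `E`. -/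
def cmpMap (T₀ : Over E) {T T' : Over T₀.left} (h : T' ⟶ T) : cmp T₀ T' ⟶ cmp T₀ T :=
  Over.homMk h.left (by
    change h.left ≫ T.hom ≫ T₀.hom = T'.hom ≫ T₀.hom
    rw [← Category.assoc, Over.w h])

/-- Sections on a slice are sections. -/
def toSect (M : ModEt X) (T : Over E) : (M.over E).val.obj (op T) →+ sectModEt M T.left where
  toFun x := x
  map_zero' := rfl
  map_add' _ _ := rfl

theorem toSect_smul (M : ModEt X) (T : Over E) (a : Fn T.left) (x : (M.over E).val.obj (op T)) :
    toSect M T (a • x) = a • toSect M T x := rfl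

theorem res_toSect (M : ModEt X) {T T' : Over E} (h : T' ⟶ T) (x : (M.over E).val.obj (op T)) :
    res M h.left (toSect M T x) = toSect M T' (Gen.mres (M.over E) h x) := rfl

theorem toSect_bijective (M : ModEt X) (T : Over E) : Function.Bijective (toSect M T) :=
  Function.bijective_id

/-- Sections over an object over an object over `E`, seen on the slice. -/
def toSect' (M : ModEt X) (T₀ : Over E) (T : Over T₀.left) :
    (M.over E).val.obj (op (cmp T₀ T)) →+ sectModEt M T.left := toSect M (cmp T₀ T)

theorem toSect'_linearCombination (M : ModEt X) (T₀ : Over E) (T : Over T₀.left) {I : Type (u + 1)}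
    (g : I → (M.over E).val.obj (op (cmp T₀ T))) (v : I →₀ Fn T.left) :
    toSect' M T₀ T (Finsupp.linearCombination (Fn (cmp T₀ T).left) g v) =
      Finsupp.linearCombination (Fn T.left) (fun i => toSect' M T₀ T (g i)) v := by
  rw [Finsupp.linearCombination_apply, Finsupp.linearCombination_apply]
  refine (map_finsuppSum (toSect' M T₀ T) v _).trans ?_
  exact Finsupp.sum_congr fun i _ => toSect_smul M (cmp T₀ T) (v i) (g i)

section quotient

variable (M : ModEt X) {B : EtOver X} {I : Type (u + 1)} (K : Submodule (Fn B) (I →₀ Fn B))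

/-- The coordinates of an extension of a quotient of a free module. -/
def psi (T : Over B) : (I →₀ Fn T.left) →ₗ[Fn T.left] Fn T.left ⊗[Fn B] ((I →₀ Fn B) ⧸ K) :=
  Finsupp.linearCombination (Fn T.left) fun i => (1 : Fn T.left) ⊗ₜ[Fn B] K.mkQ (Finsupp.single i 1)

theorem psi_mapRange (T : Over B) (v : I →₀ Fn B) :
    psi K T (v.mapRange (rmap T.hom) (map_zero _)) = (1 : Fn T.left) ⊗ₜ K.mkQ v := by
  induction v using Finsupp.induction_linear with
  | zero => simp
  | add a b ha hb => rw [Finsupp.mapRange_add (map_add _), map_add, map_add, ha, hb, TensorProduct.tmul_add]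
  | single i a =>
    rw [Finsupp.mapRange_single, psi, Finsupp.linearCombination_single]
    rw [show K.mkQ (Finsupp.single i a) = a • K.mkQ (Finsupp.single i 1) by
      rw [← map_smul, Finsupp.smul_single, smul_eq_mul, mul_one], TensorProduct.tmul_smul]
    exact (algebraMap_smul (Fn T.left) a _)

theorem psi_surjective (T : Over B) : Function.Surjective (psi K T) := by
  intro z
  induction z using TensorProduct.induction_on with
  | zero => exact ⟨0, map_zero _⟩
  | add x y hx hy =>
    obtain ⟨a, rfl⟩ := hx
    obtain ⟨b, rfl⟩ := hy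
    exact ⟨a + b, map_add _ _ _⟩
  | tmul b n =>
    obtain ⟨v, rfl⟩ := K.mkQ_surjective n
    refine ⟨b • v.mapRange (rmap T.hom) (map_zero _), ?_⟩
    rw [map_smul, psi_mapRange, TensorProduct.smul_tmul', smul_eq_mul, mul_one]

theorem rTensor_psi {T T' : Over B} (h : T' ⟶ T) (v : I →₀ Fn T.left) :
    (fnT h).rTensor _ (psi K T v) = psi K T' (v.mapRange (rmap h.left) (map_zero _)) := by
  induction v using Finsupp.induction_linear with
  | zero => simp
  | add a b ha hb => rw [map_add, map_add, ha, hb, Finsupp.mapRange_add (map_add _), map_add]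
  | single i a =>
    simp only [psi, Finsupp.mapRange_single, Finsupp.linearCombination_single, TensorProduct.smul_tmul',
      LinearMap.rTensor_tmul, smul_eq_mul, mul_one]
    rfl

theorem theta_psi (g : I → sectModEt M B) (hK : K ≤ LinearMap.ker (Finsupp.linearCombination (Fn B) g))
    (T : Over B) (v : I →₀ Fn T.left) :
    theta M (K.liftQ _ hK) T (psi K T v) =
      Finsupp.linearCombination (Fn T.left) (fun i => res M T.hom (g i)) v := by
  induction v using Finsupp.induction_linear with
  | zero => simp
  | add a b ha hb => rw [map_add, map_add, map_add, ha, hb]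
  | single i a =>
    simp only [psi, Finsupp.linearCombination_single, map_smul, theta_tmul, one_smul]
    congr 2
    exact (Finsupp.linearCombination_single (Fn B) _ _).trans (one_smul _ _)

end quotient

/-- A free presentation on a slice makes the affine values there base changes. -/
theorem cart_of_free {M : ModEt X} {I J : Type (u + 1)} {G : ModEtOn E}
    (φ : SheafOfModules.free (R := OEtOn E) I ⟶ M.over E) [Epi φ] (p : SheafOfModules.free J ⟶ G) [Epi p]
    (κ : G ⟶ SheafOfModules.free (R := OEtOn E) I) (hκ : (p ≫ κ) ≫ φ = 0)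
    (hlift : ∀ T x, appOn φ T x = 0 → ∃ y, appOn κ T y = x) (T₀ : Over E) (hT₀ : Aff T₀.left) :
    Cart M T₀.left := by
  choose r hr using fun j => eL_surjective (I := I) T₀ hT₀ (gen (p ≫ κ) T₀ j)
  let g : I → sectModEt M T₀.left := fun i => toSect M T₀ (gen φ T₀ i)
  let L : (M.over E).val.obj (op T₀) →ₗ[Fn T₀.left] sectModEt M T₀.left :=
    { toFun := toSect M T₀, map_add' := map_add _, map_smul' := toSect_smul M T₀ }
  let K : Submodule (Fn T₀.left) (I →₀ Fn T₀.left) := Submodule.span (Fn T₀.left) (Set.range r)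
  have hK : K ≤ LinearMap.ker (Finsupp.linearCombination (Fn T₀.left) g) :=
    Submodule.span_le.2 (by
      rintro _ ⟨j, rfl⟩
      exact (Finsupp.apply_linearCombination (Fn T₀.left) L (gen φ T₀) (r j)).symm.trans
        ((congrArg L (linearCombination_gen_eq_zero (ψ := p ≫ κ) (φ := φ) hκ T₀ j (r j) (hr j))).trans (map_zero L)))
  have hg : ∀ T : Over T₀.left, (fun i => res M T.hom (g i)) = fun i => toSect' M T₀ T (gen φ (cmp T₀ T) i) :=
    fun T => funext fun i => (res_toSect M (cmpHom T₀ T) (gen φ T₀ i)).trans (congrArg _ (mres_gen φ (cmpHom T₀ T) i))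
  refine cart_of_locally hT₀ (ι := K.liftQ _ hK) (fun T hT z hz => ?_) (fun T hT s => ?_)
  · obtain ⟨v, rfl⟩ := psi_surjective K T z
    rw [theta_psi, hg, ← toSect'_linearCombination] at hz
    obtain ⟨R, hR, h⟩ := relation_local φ p κ hlift r hr (cmp T₀ T) v
      ((toSect_bijective M (cmp T₀ T)).1 (hz.trans (map_zero _).symm))
    have hR' := (GrothendieckTopology.mem_over_iff _ _).1 hR
    refine ⟨_, hR', fun T' f _ hf => ?_⟩
    obtain ⟨w, hw⟩ := h (cmp T₀ T') (cmpMap T₀ f) (cmpHom T₀ T') (sieve_over R (cmpMap T₀ f) hf)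
    rw [rTensor_psi]
    refine (congrArg (psi K T') hw).trans ?_
    refine (Finsupp.apply_linearCombination (Fn T'.left) (psi K T') _ w).trans ?_
    refine (Finsupp.linearCombination_apply _ _).trans (Finset.sum_eq_zero fun j _ => ?_)
    change (show Fn T'.left from w j) • psi K T' ((r j).mapRange (rmap T'.hom) (map_zero _)) = 0
    rw [psi_mapRange, show K.mkQ (r j) = 0 from (Submodule.Quotient.mk_eq_zero _).2 (Submodule.subset_span ⟨j, rfl⟩),
      TensorProduct.tmul_zero, smul_zero]
  · obtain ⟨x, hx⟩ := (toSect_bijective M (cmp T₀ T)).2 s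
    obtain ⟨R, hR, h⟩ := generation_local φ (cmp T₀ T) x
    have hR' := (GrothendieckTopology.mem_over_iff _ _).1 hR
    refine ⟨_, hR', fun T' f _ hf => ?_⟩
    obtain ⟨v, hv⟩ := h (cmp T₀ T') (cmpMap T₀ f) (sieve_over R (cmpMap T₀ f) hf)
    refine ⟨psi K T' v, ?_⟩
    rw [theta_psi, hg, ← toSect'_linearCombination, ← hx]
    exact (congrArg (toSect' M T₀ T') hv).trans (res_toSect M (cmpMap T₀ f) x).symm

/-- A presentation on a slice makes the affine values there base changes. -/
theorem cart_of_presentation {M : ModEt X} (P : (M.over E).Presentation) (T₀ : Over E) (hT₀ : Aff T₀.left) :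
    Cart M T₀.left := by
  haveI : Epi P.generators.π := P.generators.epi
  haveI : Epi P.relations.π := P.relations.epi
  exact cart_of_free P.generators.π P.relations.π (kernel.ι P.generators.π)
    (by rw [Category.assoc, kernel.condition, comp_zero]) (exists_kernel_sectionOn P.generators.π) T₀ hT₀

/-- A quasi-coherent module has base changes as its values on affine objects. -/
theorem cart_of_isQuasicoherent (M : ModEt X) [M.IsQuasicoherent] (hE : Aff E) : Cart M E := by
  obtain ⟨q⟩ := SheafOfModules.IsQuasicoherent.nonempty_quasicoherentData (M := M)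
  obtain ⟨c, hc⟩ := exists_cov hE (q.coversTop E)
  refine cart_of_cov hE c fun k => ?_
  obtain ⟨i, ⟨g⟩⟩ := (Sieve.mem_ofObjects_iff _ _).1 (hc k)
  exact cart_of_presentation (q.presentation i) (Over.mk g) (c.aff k)

end Groth.Agent.QCart13

end
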