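import Groth.Agent.QCart13.Ops2
import Mathlib.Algebra.Category.ModuleCat.Sheaf.Colimits

/-!
# Quasi-coherent modules on a small etale site are stable under colimits, kernels and extensions
-/

set_option autoImplicit false
set_option backward.isDefEq.respectTransparency false
set_option backward.isDefEq.respectTransparency.types false

noncomputable section

universe u

open CategoryTheory CategoryTheory.Limits AlgebraicGeometry Opposite AlgSp

namespace Groth.Agent.QCart13

variable {S : Scheme.{u}} {X : Sp S}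

theorem isQuasicoherent_colimit {J : Type u} [SmallCategory J] (D : J ⥤ ModEt X) [HasColimit D]
    (h : ∀ j, (D.obj j).IsQuasicoherent) : (colimit D).IsQuasicoherent :=
  isQuasicoherent_of_cart _ fun _ hE =>
    cart_colimit D hE fun j => haveI := h j; cart_of_isQuasicoherent (D.obj j) hE

theorem isQuasicoherent_kernel {F G : ModEt X} (φ : F ⟶ G) [F.IsQuasicoherent] [G.IsQuasicoherent] :
    (kernel φ).IsQuasicoherent :=
  isQuasicoherent_of_cart _ fun _ hE =>
    cart_kernel hE φ (cart_of_isQuasicoherent F hE) (cart_of_isQuasicoherent G hE)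

theorem isQuasicoherent_cokernel {F G : ModEt X} (φ : F ⟶ G) [F.IsQuasicoherent] [G.IsQuasicoherent] :
    (cokernel φ).IsQuasicoherent :=
  isQuasicoherent_of_cart _ fun _ hE =>
    cart_cokernel hE φ (cart_of_isQuasicoherent F hE) (cart_of_isQuasicoherent G hE)

theorem exists_preimage_of_shortExact (C : ShortComplex (ModEt X)) (hC : C.ShortExact) (W : EtOver X)
    (x : sectModEt C.X₂ W) (hx : appL C.g W x = 0) : ∃ y, appL C.f W y = x := by
  haveI := hC.mono_f
  obtain ⟨k, hk⟩ := exists_kernel_preimage C.g W x hx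
  let l : kernel C.g ⟶ C.X₁ := hC.exact.lift (kernel.ι C.g) (kernel.condition C.g)
  refine ⟨appL l W k, ?_⟩
  rw [appL_appL, hC.exact.lift_f]
  exact hk

theorem isQuasicoherent_two_of_three (C : ShortComplex (ModEt X)) (hC : C.ShortExact) :
    (C.X₁.IsQuasicoherent → C.X₂.IsQuasicoherent → C.X₃.IsQuasicoherent) ∧
      (C.X₁.IsQuasicoherent → C.X₃.IsQuasicoherent → C.X₂.IsQuasicoherent) ∧
      (C.X₂.IsQuasicoherent → C.X₃.IsQuasicoherent → C.X₁.IsQuasicoherent) := by
  haveI := hC.mono_f
  haveI := hC.epi_g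
  have hl := exists_preimage_of_shortExact C hC
  refine ⟨fun h₁ h₂ => ?_, fun h₁ h₃ => ?_, fun h₂ h₃ => ?_⟩ <;> refine isQuasicoherent_of_cart _ fun E hE => ?_
  · refine cart_coker hE C.f C.g C.zero (fun W y hy => ⟨⊤, (etTop X).top_mem _, fun V f _ => ?_⟩)
      (cart_of_isQuasicoherent C.X₁ hE) (cart_of_isQuasicoherent C.X₂ hE)
    obtain ⟨x, hx⟩ := hl W y hy
    exact ⟨res C.X₁ f x, by rw [← res_appL, hx]⟩
  · exact cart_ext C.f C.g C.zero hl hE (cart_of_isQuasicoherent C.X₁ hE) (cart_of_isQuasicoherent C.X₃ hE)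
  · exact cart_ker hE C.f C.g C.zero hl (cart_of_isQuasicoherent C.X₂ hE) (cart_of_isQuasicoherent C.X₃ hE)

end Groth.Agent.QCart13

end
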