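import Groth.Agent.QCart13.QC

/-!
# Modules whose affine values are base changes are quasi-coherent
-/

set_option autoImplicit false
set_option backward.isDefEq.respectTransparency false
set_option backward.isDefEq.respectTransparency.types false

noncomputable section

universe u

open CategoryTheory CategoryTheory.Limits AlgebraicGeometry Opposite AlgSp TensorProduct

namespace Groth.Agent.QCart13

variable {S : Scheme.{u}} {X : Sp S}

theorem covering_of_affine {E : EtOver X} {R : Sieve E}
    (h : ∀ (W : EtOver X) (j : W ⟶ E), Aff W → R j) : R ∈ etTop X E :=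
  mem_etTop_of_exists R fun x => by
    obtain ⟨W, j, hW, hx⟩ := exists_aff_open E x
    exact ⟨W, j, h W j hW, hx⟩

section slice

variable {E : EtOver X} {F G : ModEtOn E}

/-- The sieve of morphisms with affine source. -/
def affSieve (T : Over E) : Sieve T :=
  Sieve.generate (fun T' => {_h : T' ⟶ T | Aff T'.left})

theorem affSieve_mem (T : Over E) : affSieve T ∈ (etTop X).over E T := by
  rw [GrothendieckTopology.mem_over_iff]
  refine covering_of_affine fun W j hW => ?_
  rw [Sieve.overEquiv_iff]
  exact Sieve.le_generate _ _ _ hW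

/-- A locally surjective morphism is an epimorphism. -/
theorem epi_of_local (φ : F ⟶ G)
    (h : ∀ (T : Over E), Aff T.left → ∀ x : G.val.obj (op T), ∃ y, appOn φ T y = x) : Epi φ := by
  refine ⟨fun {H} a b hab => SheafOfModules.hom_ext (PresheafOfModules.hom_ext fun T => ?_)⟩
  ext x
  refine sub_eq_zero.1 (Gen.eq_zero_of_local H _ (affSieve_mem T.unop) fun T' f hf => ?_)
  obtain ⟨T'', p, q, hq, rfl⟩ := hf
  obtain ⟨y, hy⟩ := h T'' hq (Gen.mres G q x)
  rw [map_sub, sub_eq_zero, Gen.map_comp_apply, Gen.map_comp_apply]
  refine congrArg (Gen.mres H p) ?_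
  change Gen.mres H q (appOn a T.unop x) = Gen.mres H q (appOn b T.unop x)
  rw [mres_appOn, mres_appOn, ← hy, appOn_appOn, appOn_appOn, hab]

theorem injective_appOn (φ : F ⟶ G) [Mono φ] (T : Over E) : Function.Injective (appOn φ T) := by
  have : Mono ((SheafOfModules.evaluation (OEtOn E) (op T)).map φ) := inferInstance
  have h : Function.Injective (φ.val.app (op T)).hom := (ModuleCat.mono_iff_injective _).1 this
  exact h

end slice

variable (M : ModEt X) {E : EtOver X}

/-- Sections over the object itself, as sections on its slice. -/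
def secOf (m : sectModEt M E) : (M.over E).sections :=
  PresheafOfModules.sectionsMk (fun T => (res M T.unop.hom m : sectModEt M T.unop.left)) fun T T' f => by
    exact (res_comp M f.unop.left T.unop.hom m).symm.trans
      (congrArg (fun g => res M g m) (Over.w f.unop))

/-- Sections on the slice over the object itself, as sections of the slice. -/
def secTop (F : ModEtOn E) (y : F.val.obj (op (Over.mk (𝟙 E)))) : F.sections :=
  PresheafOfModules.sectionsMk
    (fun T => Gen.mres F (Over.homMk T.unop.hom (Category.comp_id _) : T.unop ⟶ Over.mk (𝟙 E)) y)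
    fun T T' f => by
      refine (Gen.map_comp_apply F f.unop _ y).symm.trans ?_
      exact congrArg (fun g => Gen.mres F g y) (Over.OverMorphism.ext (Over.w f.unop))

theorem gen_freeHomEquiv_symm {F : ModEtOn E} {I : Type (u + 1)} (s : I → F.sections) (T : Over E) (i : I) :
    gen ((SheafOfModules.freeHomEquiv F).symm s) T i = (s i).eval (op T) :=
  congrArg (fun t : F.sections => t.eval (op T))
    (SheafOfModules.sectionsMap_freeHomEquiv_symm_freeSection s i)

/-- The map from the free module on all sections. -/
def allπ : SheafOfModules.free (R := OEtOn E) (sectModEt M E) ⟶ M.over E :=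
  (SheafOfModules.freeHomEquiv _).symm (secOf M)

theorem gen_allπ (T : Over E) (m : sectModEt M E) : toSect M T (gen (allπ M) T m) = res M T.hom m :=
  congrArg (toSect M T) (gen_freeHomEquiv_symm (secOf M) T m)

theorem toSect_allπ (T : Over E) (v : sectModEt M E →₀ Fn T.left) :
    toSect M T (appOn (allπ M) T (eL T v)) =
      Finsupp.linearCombination (Fn T.left) (fun m => res M T.hom m) v := by
  rw [← pi_eL, Finsupp.linearCombination_apply, Finsupp.linearCombination_apply]
  refine (map_finsuppSum (toSect M T) v _).trans ?_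
  exact Finsupp.sum_congr fun m _ => (toSect_smul M T (v m) _).trans (congrArg _ (gen_allπ M T m))

/-- The combination of all sections. -/
def allL : (sectModEt M E →₀ Fn E) →ₗ[Fn E] sectModEt M E := Finsupp.linearCombination (Fn E) id

theorem allπ_surjective (hc : Cart M E) (T : Over E) (hT : Aff T.left) (x : (M.over E).val.obj (op T)) :
    ∃ y, appOn (allπ M) T y = x := by
  obtain ⟨z, hz⟩ := ((isBaseChange_iff_bijective _).1 ((isBC_iff M T).1 (hc _ T.hom hT))).2 (toSect M T x)
  suffices h : ∀ z, ∃ v : sectModEt M E →₀ Fn T.left,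
      Finsupp.linearCombination (Fn T.left) (fun m => res M T.hom m) v = (res₀ M T).liftBaseChange (Fn T.left) z by
    obtain ⟨v, hv⟩ := h z
    exact ⟨eL T v, (toSect_bijective M T).1 (by rw [toSect_allπ, hv, hz])⟩
  intro z
  induction z using TensorProduct.induction_on with
  | zero => exact ⟨0, by simp⟩
  | tmul a m => exact ⟨Finsupp.single m a, by simp⟩
  | add z w hz hw =>
    obtain ⟨a, ha⟩ := hz
    obtain ⟨b, hb⟩ := hw
    exact ⟨a + b, by rw [map_add, map_add, ha, hb]⟩

theorem exists_relation (hc : Cart M E) (T : Over E) (hT : Aff T.left) (v : sectModEt M E →₀ Fn T.left)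
    (hv : Finsupp.linearCombination (Fn T.left) (fun m => res M T.hom m) v = 0) :
    v ∈ Submodule.span (Fn T.left)
      (Set.range fun r : LinearMap.ker (allL M (E := E)) => r.1.mapRange (rmap T.hom) (map_zero _)) := by
  let Φ : (sectModEt M E →₀ Fn E) →ₗ[Fn E] (sectModEt M E →₀ Fn T.left) :=
    Finsupp.mapRange.linearMap (Algebra.linearMap (Fn E) (Fn T.left))
  let z : Fn T.left ⊗[Fn E] (sectModEt M E →₀ Fn E) := v.sum fun m a => a ⊗ₜ Finsupp.single m 1
  have hz : Φ.liftBaseChange (Fn T.left) z = v := by
    rw [map_finsuppSum]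
    conv_rhs => rw [← Finsupp.sum_single v]
    refine Finsupp.sum_congr fun m _ => ?_
    simp [Φ, Finsupp.mapRange_single]
  have h0 : (allL M).lTensor (Fn T.left) z = 0 := by
    refine ((isBaseChange_iff_bijective _).1 ((isBC_iff M T).1 (hc _ T.hom hT))).1 ?_
    rw [map_zero, liftBaseChange_lTensor, map_finsuppSum]
    refine Eq.trans ?_ hv
    rw [Finsupp.linearCombination_apply]
    refine Finsupp.sum_congr fun m _ => ?_
    simp [allL]
  obtain ⟨w, hw⟩ := exists_lTensor_ker (allL M (E := E)) (fun x => ⟨Finsupp.single x 1, by simp [allL]⟩) z h0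
  rw [← hz, ← hw]
  clear hw
  induction w using TensorProduct.induction_on with
  | zero => simp
  | add x y hx hy => rw [map_add, map_add]; exact add_mem hx hy
  | tmul a r =>
    rw [LinearMap.lTensor_tmul, LinearMap.liftBaseChange_tmul]
    exact Submodule.smul_mem _ _ (Submodule.subset_span ⟨r, rfl⟩)

theorem allπ_relation (r : LinearMap.ker (allL M (E := E))) :
    appOn (allπ M) (Over.mk (𝟙 E)) (eL (Over.mk (𝟙 E)) r.1) = 0 := by
  refine (toSect_bijective M _).1 (((toSect_allπ M (Over.mk (𝟙 E)) r.1).trans ?_).trans (map_zero _).symm)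
  refine Eq.trans ?_ r.2
  exact congrArg (fun g => Finsupp.linearCombination (Fn E) g r.1) (funext fun m => res_id M E m)

/-- The relations among all sections, as sections of the kernel. -/
def allRel (r : LinearMap.ker (allL M (E := E))) :
    (kernel (allπ M (E := E))).val.obj (op (Over.mk (𝟙 E))) :=
  (exists_kernel_sectionOn (allπ M) _ _ (allπ_relation M r)).choose

theorem allRel_spec (r : LinearMap.ker (allL M (E := E))) :
    appOn (kernel.ι (allπ M)) (Over.mk (𝟙 E)) (allRel M r) = eL (Over.mk (𝟙 E)) r.1 :=
  (exists_kernel_sectionOn (allπ M) _ _ (allπ_relation M r)).choose_spec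

theorem epi_of_relations {I J : Type (u + 1)} {K F : ModEtOn E}
    (φ : SheafOfModules.free (R := OEtOn E) I ⟶ F) (κ : K ⟶ SheafOfModules.free (R := OEtOn E) I) [Mono κ]
    (hκ : κ ≫ φ = 0) (r : J → I →₀ Fn E) (y : J → K.val.obj (op (Over.mk (𝟙 E))))
    (hy : ∀ j, appOn κ (Over.mk (𝟙 E)) (y j) = eL (Over.mk (𝟙 E)) (r j))
    (hspan : ∀ (T : Over E), Aff T.left → ∀ v, appOn φ T (eL T v) = 0 →
      v ∈ Submodule.span (Fn T.left) (Set.range fun j => (r j).mapRange (rmap T.hom) (map_zero _))) :
    Epi ((SheafOfModules.freeHomEquiv K).symm fun j => secTop K (y j)) := by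
  refine epi_of_local _ fun T hT x => ?_
  obtain ⟨v, hv⟩ := eL_surjective T hT (appOn κ T x)
  obtain ⟨w, hw⟩ := Finsupp.mem_span_range_iff_exists_finsupp.1 (hspan T hT v (by
    rw [hv, appOn_appOn, hκ]
    rfl))
  refine ⟨eL T w, injective_appOn κ T ?_⟩
  rw [← hv, ← hw, ← pi_eL, Finsupp.apply_linearCombination, Finsupp.linearCombination_apply, map_finsuppSum]
  refine Finsupp.sum_congr fun j _ => ?_
  rw [map_smul]
  congr 1
  rw [Function.comp_apply, gen_freeHomEquiv_symm]
  change appOn κ T (Gen.mres _ (Over.homMk T.hom (Category.comp_id _) : T ⟶ Over.mk (𝟙 E)) (y j)) = _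
  rw [← mres_appOn, hy, mres_eL]
  rfl

theorem span_relations (hc : Cart M E) (T : Over E) (hT : Aff T.left) (v : sectModEt M E →₀ Fn T.left)
    (hv : appOn (allπ M) T (eL T v) = 0) :
    v ∈ Submodule.span (Fn T.left)
      (Set.range fun r : LinearMap.ker (allL M (E := E)) => r.1.mapRange (rmap T.hom) (map_zero _)) :=
  exists_relation M hc T hT v (((toSect_allπ M T v).symm.trans (congrArg (toSect M T) hv)).trans (map_zero _))

/-- Relations among all sections generate all relations. -/
theorem epi_allRel (hc : Cart M E) :
    Epi ((SheafOfModules.freeHomEquiv (kernel (allπ M (E := E)))).symm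
      fun r : LinearMap.ker (allL M (E := E)) => secTop (kernel (allπ M (E := E))) (allRel M r)) := by
  have h := epi_of_relations (J := LinearMap.ker (allL M (E := E))) (allπ M (E := E)) (kernel.ι (allπ M (E := E)))
    (kernel.condition _) (fun r => r.1) (allRel M) (allRel_spec M) (span_relations M hc)
  exact h

/-- Modules with base changes as affine values are quasi-coherent. -/
theorem isQuasicoherent_of_cart (h : ∀ E : EtOver X, Aff E → Cart M E) : M.IsQuasicoherent := by
  exact SheafOfModules.QuasicoherentData.isQuasicoherent (M := M)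
    { I := {E : EtOver X // Aff E}
      X := fun E => E.1
      coversTop := fun E => covering_of_affine fun W j hW =>
        (Sieve.mem_ofObjects_iff _ _).2 ⟨⟨W, hW⟩, ⟨𝟙 W⟩⟩
      presentation := fun E =>
        { generators :=
            { I := sectModEt M E.1
              s := secOf M
              epi := epi_of_local (allπ M) (allπ_surjective M (h E.1 E.2)) }
          relations :=
            { I := LinearMap.ker (allL M (E := E.1))
              s := fun r => secTop _ (allRel M r)
              epi := epi_allRel M (h E.1 E.2) } } }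

end Groth.Agent.QCart13

end
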