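import Groth.Agent.QCart13.Cover

/-!
# Local criteria for the values on affine objects to be base changes
-/

set_option autoImplicit false
set_option backward.isDefEq.respectTransparency false
set_option backward.isDefEq.respectTransparency.types false

noncomputable section

universe u

open CategoryTheory CategoryTheory.Limits AlgebraicGeometry Opposite AlgSp TensorProduct

namespace Groth.Agent.QCart13

variable {S : Scheme.{u}} {X : Sp S} (M : ModEt X) {E : EtOver X}

/-- Restriction of functions between objects over `E`. -/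
def fnT {T T' : Over E} (h : T' ⟶ T) : Fn T.left →ₗ[Fn E] Fn T'.left where
  toFun := rmap h.left
  map_add' := map_add _
  map_smul' a b := by
    change rmap h.left (rmap T.hom a * b) = rmap T'.hom a * rmap h.left b
    rw [map_mul, ← rmap_comp, Over.w h]

/-- An object over an object over `E`, as an object over `E`. -/
def cmp (T : Over E) (U : Over T.left) : Over E := Over.mk (U.hom ≫ T.hom)

/-- The two projections of a fibre product form a pushout on functions. -/
theorem isPushout_bx {T U : Over E} (hE : Aff E) (hT : Aff T.left) (hU : Aff U.left) :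
    IsPushout T.hom.hom.left.left.appTop U.hom.hom.left.left.appTop
      (bxFst T U).left.hom.left.left.appTop (bxSnd T U).left.hom.left.left.appTop := by
  have : IsAffine T.left.obj.left.left := hT
  have : IsAffine U.left.obj.left.left := hU
  have : IsAffine E.obj.left.left := hE
  exact isPushout_appTop_of_isPullback (isPullback_bx_scheme T U)

section module

variable {N : Type (u + 1)} [AddCommGroup N] [Module (Fn E) N]

theorem isBaseChange_fnT {T U : Over E} (hE : Aff E) (hT : Aff T.left) (hU : Aff U.left) :
    IsBaseChange (Fn T.left) ((fnT (bxSnd T U)).rTensor N) := by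
  letI := algOf (bxSnd T U).left
  haveI : IsScalarTower (Fn E) (Fn T.left) (Fn (bx T U).left) :=
    IsScalarTower.of_algebraMap_eq fun a => rfl
  haveI : IsScalarTower (Fn E) (Fn U.left) (Fn (bx T U).left) :=
    IsScalarTower.of_algebraMap_eq fun a => by
      change rmap (bx T U).hom a = rmap (bxSnd T U).left (rmap U.hom a)
      rw [← rmap_comp, Over.w (bxSnd T U)]
  haveI : Algebra.IsPushout (Fn E) (Fn T.left) (Fn U.left) (Fn (bx T U).left) :=
    CommRingCat.isPushout_iff_isPushout.1 (isPushout_bx hE hT hU)
  exact isBaseChange_rTensor (Fn E) (Fn U.left) (Fn T.left) (Fn (bx T U).left)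

variable (ι : N →ₗ[Fn E] sectModEt M E)

/-- The comparison from the extended module to the sections. -/
def theta (T : Over E) : Fn T.left ⊗[Fn E] N →ₗ[Fn T.left] sectModEt M T.left :=
  (res₀ M T ∘ₗ ι).liftBaseChange (Fn T.left)

theorem theta_tmul (T : Over E) (b : Fn T.left) (n : N) :
    theta M ι T (b ⊗ₜ n) = b • res M T.hom (ι n) := rfl

theorem res_theta {T T' : Over E} (h : T' ⟶ T) (z : Fn T.left ⊗[Fn E] N) :
    res M h.left (theta M ι T z) = theta M ι T' ((fnT h).rTensor N z) := by
  induction z using TensorProduct.induction_on with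
  | zero => simp
  | tmul b n =>
    rw [LinearMap.rTensor_tmul, theta_tmul, theta_tmul, res_smul, ← res_comp, Over.w h]
    rfl
  | add x y hx hy => simp only [map_add, hx, hy]

/-- An element of a kernel dies locally. -/
def LocInj : Prop := ∀ (T : Over E), Aff T.left → ∀ z, theta M ι T z = 0 →
  ∃ R ∈ etTop X T.left, ∀ (T' : Over E) (h : T' ⟶ T), Aff T'.left → R h.left → (fnT h).rTensor N z = 0

/-- Sections come locally from the module. -/
def LocSurj : Prop := ∀ (T : Over E), Aff T.left → ∀ s : sectModEt M T.left,
  ∃ R ∈ etTop X T.left, ∀ (T' : Over E) (h : T' ⟶ T), Aff T'.left → R h.left →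
    res M h.left s ∈ LinearMap.range (theta M ι T')

/-- Extending twice is extending once. -/
def cancel (T : Over E) (U : Over T.left) :
    Fn U.left ⊗[Fn T.left] (Fn T.left ⊗[Fn E] N) ≃+ Fn (cmp T U).left ⊗[Fn E] N :=
  letI : Algebra (Fn E) (Fn U.left) := algOf (U.hom ≫ T.hom)
  haveI : IsScalarTower (Fn E) (Fn T.left) (Fn U.left) := IsScalarTower.of_algebraMap_eq fun _ => rfl
  (TensorProduct.AlgebraTensorModule.cancelBaseChange (Fn E) (Fn T.left) (Fn U.left) (Fn U.left) N).toAddEquiv

theorem cancel_tmul (T : Over E) (U : Over T.left) (a : Fn U.left) (b : Fn T.left) (n : N) :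
    cancel T U (a ⊗ₜ (b ⊗ₜ n)) = (show Fn (cmp T U).left from rmap U.hom b * a) ⊗ₜ n := rfl

theorem theta_cancel (T : Over E) (U : Over T.left) (z : Fn U.left ⊗[Fn T.left] (Fn T.left ⊗[Fn E] N)) :
    theta M (theta M ι T) U z = theta M ι (cmp T U) (cancel T U z) := by
  induction z using TensorProduct.induction_on with
  | zero => simp
  | add x y hx hy => simp only [map_add, hx, hy]
  | tmul a y =>
    induction y using TensorProduct.induction_on with
    | zero => simp
    | add x y hx hy => simp only [TensorProduct.tmul_add, map_add, hx, hy]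
    | tmul b n =>
      rw [theta_tmul, cancel_tmul, theta_tmul, theta_tmul, res_smul, smul_smul, mul_comm]
      exact congrArg _ (res_comp M U.hom T.hom (ι n)).symm

theorem fnT_cancel (T : Over E) {U U' : Over T.left} (h : U' ⟶ U)
    (z : Fn U.left ⊗[Fn T.left] (Fn T.left ⊗[Fn E] N)) :
    cancel T U' ((fnT h).rTensor _ z) =
      (fnT (Over.homMk h.left (by
        change h.left ≫ U.hom ≫ T.hom = U'.hom ≫ T.hom
        rw [← Category.assoc, Over.w h]) : cmp T U' ⟶ cmp T U)).rTensor N (cancel T U z) := by
  induction z using TensorProduct.induction_on with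
  | zero => simp
  | add x y hx hy => simp only [map_add, hx, hy]
  | tmul a y =>
    induction y using TensorProduct.induction_on with
    | zero => simp
    | add x y hx hy => simp only [TensorProduct.tmul_add, map_add, hx, hy]
    | tmul b n =>
      rw [LinearMap.rTensor_tmul, cancel_tmul, cancel_tmul, LinearMap.rTensor_tmul]
      congr 1
      change rmap U'.hom b * rmap h.left a = rmap h.left (rmap U.hom b * a)
      rw [map_mul, ← rmap_comp, Over.w h]

variable {M ι}

theorem locInj_theta (hI : LocInj M ι) (T : Over E) : LocInj M (theta M ι T) := by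
  intro U hU z hz
  rw [theta_cancel] at hz
  obtain ⟨R, hR, h⟩ := hI (cmp T U) hU _ hz
  refine ⟨R, hR, fun U' k hU' hk => (cancel T U').injective ?_⟩
  rw [fnT_cancel, map_zero]
  exact h _ _ hU' hk

theorem locSurj_theta (hS : LocSurj M ι) (T : Over E) : LocSurj M (theta M ι T) := by
  intro U hU s
  obtain ⟨R, hR, h⟩ := hS (cmp T U) hU s
  refine ⟨R, hR, fun U' k hU' hk => ?_⟩
  let k' : cmp T U' ⟶ cmp T U := Over.homMk k.left (by
    change k.left ≫ U.hom ≫ T.hom = U'.hom ≫ T.hom
    rw [← Category.assoc, Over.w k])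
  obtain ⟨w, hw⟩ := h (cmp T U') k' hU' hk
  exact ⟨(cancel T U').symm w, (theta_cancel M ι T U' _).trans (by rw [AddEquiv.apply_symm_apply]; exact hw)⟩

theorem injective_base (hE : Aff E) (hI : LocInj M ι) : Function.Injective ι := by
  refine (injective_iff_map_eq_zero _).2 fun n hn => ?_
  obtain ⟨R, hR, hzero⟩ := hI (Over.mk (𝟙 E)) hE (1 ⊗ₜ n) (by rw [theta_tmul, hn, map_zero, smul_zero])
  obtain ⟨c, hc⟩ := exists_cov hE hR
  haveI : ∀ k, Module.Flat (Fn E) (Fn (c.T k).left) := fun k => flat_over hE (c.aff k)
  refine eq_zero_of_forall_tmul (c.jointlySurj hE) n fun k => ?_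
  have h := hzero (c.T k) (Over.homMk (c.T k).hom (Category.comp_id _)) (c.aff k) (hc k)
  rw [LinearMap.rTensor_tmul] at h
  refine Eq.trans ?_ h
  congr 1
  exact (map_one (rmap (c.T k).hom)).symm

theorem surjective_base (hE : Aff E) (hinj : ∀ T : Over E, Aff T.left → Function.Injective (theta M ι T))
    (hS : LocSurj M ι) : Function.Surjective ι := by
  intro s
  obtain ⟨R, hR, hsur'⟩ := hS (Over.mk (𝟙 E)) hE s
  obtain ⟨c, hc⟩ := exists_cov hE hR
  haveI : ∀ k, Module.Flat (Fn E) (Fn (c.T k).left) := fun k => flat_over hE (c.aff k)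
  have hsur : ∀ k, ∃ w, theta M ι (c.T k) w = res M (c.T k).hom s := fun k =>
    hsur' (c.T k) (Over.homMk (c.T k).hom (Category.comp_id _)) (c.aff k) (hc k)
  let θl : ∀ k, Fn (c.T k).left ⊗[Fn E] N →ₗ[Fn E] sectModEt M (c.T k).left := fun k =>
    (theta M ι (c.T k)).restrictScalars (Fn E)
  refine mem_range_of_local (C := fun k => Fn (c.T k).left) (c.jointlySurj hE) ι (fun k => res₀ M (c.T k))
    (fun l => LinearMap.range (θl l)) (fun x hx => c.ext M hx)
    (fun k l => resT M (bxSnd (c.T k) (c.T l))) ?_ ?_ s ?_ ?_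
  · intro k l
    refine (injective_iff_map_eq_zero _).2 fun x hx => ?_
    obtain ⟨y, rfl⟩ := LinearMap.lTensor_surjective (Fn (c.T k).left) (θl l).surjective_rangeRestrict x
    rw [liftBaseChange_lTensor] at hx
    have key : ∀ y, ((resT M (bxSnd (c.T k) (c.T l)) ∘ₗ (LinearMap.range (θl l)).subtype) ∘ₗ
          (θl l).rangeRestrict).liftBaseChange (Fn (c.T k).left) y =
        theta M ι (bx (c.T k) (c.T l))
          (((fnT (bxSnd (c.T k) (c.T l))).rTensor N).liftBaseChange (Fn (c.T k).left) y) := by
      intro y
      induction y using TensorProduct.induction_on with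
      | zero => simp
      | add x y hx hy => simp only [map_add, hx, hy]
      | tmul a w =>
        rw [LinearMap.liftBaseChange_tmul, LinearMap.liftBaseChange_tmul]
        change a • res M (bxSnd (c.T k) (c.T l)).left (theta M ι (c.T l) w) = _
        rw [res_theta, ← algebraMap_smul (Fn (bx (c.T k) (c.T l)).left) a
          ((fnT (bxSnd (c.T k) (c.T l))).rTensor N w), map_smul]
        rfl
    rw [key] at hx
    have h0 := ((isBaseChange_iff_bijective _).1
      (isBaseChange_fnT (N := N) hE (c.aff k) (c.aff l))).1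
      ((hinj _ (aff_bx hE (c.aff k) (c.aff l)) (hx.trans (map_zero _).symm)).trans (map_zero _).symm)
    rw [h0, map_zero]
  · intro l p
    exact ⟨(1 : Fn (c.T l).left) ⊗ₜ p, by
      change theta M ι (c.T l) _ = _
      rw [theta_tmul, one_smul]
      rfl⟩
  · exact fun l => hsur l
  · intro k
    obtain ⟨w, hw⟩ := hsur k
    refine ⟨w, fun l => ?_⟩
    have key : ∀ w : Fn (c.T k).left ⊗[Fn E] N,
        (resT M (bxSnd (c.T k) (c.T l)) ∘ₗ res₀ M (c.T l) ∘ₗ ι).liftBaseChange (Fn (c.T k).left) w =
        res M (bxFst (c.T k) (c.T l)).left (theta M ι (c.T k) w) := by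
      intro w
      induction w using TensorProduct.induction_on with
      | zero => simp
      | add x y hx hy => simp only [map_add, hx, hy]
      | tmul a n =>
        simp only [LinearMap.liftBaseChange_tmul, LinearMap.comp_apply, theta_tmul, res₀_apply, resT_apply]
        rw [res_smul, ← res_comp, ← res_comp, Over.w (bxSnd (c.T k) (c.T l)), Over.w (bxFst (c.T k) (c.T l))]
        rfl
    rw [key, hw]
    change res M (bxFst (c.T k) (c.T l)).left (res M (c.T k).hom s) =
      res M (bxSnd (c.T k) (c.T l)).left (res M (c.T l).hom s)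
    rw [← res_comp, ← res_comp, Over.w (bxSnd (c.T k) (c.T l)), Over.w (bxFst (c.T k) (c.T l))]

/-- A module with a locally injective and locally surjective map to the sections gives them all. -/
theorem theta_bijective (hI : LocInj M ι) (hS : LocSurj M ι) (T : Over E) (hT : Aff T.left) :
    Function.Bijective (theta M ι T) :=
  ⟨injective_base hT (locInj_theta hI T),
    surjective_base hT (fun U hU => injective_base hU (locInj_theta (locInj_theta hI T) U)) (locSurj_theta hS T)⟩

/-- Such a module is the module of sections. -/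
theorem bijective_of_locally (hE : Aff E) (hI : LocInj M ι) (hS : LocSurj M ι) : Function.Bijective ι :=
  ⟨injective_base hE hI, surjective_base hE (fun U hU => injective_base hU (locInj_theta hI U)) hS⟩

/-- Such a module makes all affine restrictions base changes. -/
theorem cart_of_locally (hE : Aff E) (hI : LocInj M ι) (hS : LocSurj M ι) : Cart M E := by
  have hι := bijective_of_locally hE hI hS
  intro E' g hE'
  refine (isBC_iff M (Over.mk g)).2 ((isBaseChange_iff_bijective _).2 ?_)
  have h := theta_bijective hI hS (Over.mk g) hE'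
  have e : ⇑((res₀ M (Over.mk g)).liftBaseChange (Fn (Over.mk g).left)) ∘ (ι.lTensor (Fn (Over.mk g).left)) =
      theta M ι (Over.mk g) := funext fun x => liftBaseChange_lTensor _ _ x
  refine (Function.Bijective.of_comp_iff _ (LinearEquiv.lTensor (Fn (Over.mk g).left)
    (LinearEquiv.ofBijective ι hι)).bijective).1 ?_
  exact (e.symm ▸ h :)

end module

section cov

variable {M}

theorem res_fst_lift (T U : Over E) (x : Fn T.left ⊗[Fn E] sectModEt M E) :
    res M (bxFst T U).left ((res₀ M T).liftBaseChange (Fn T.left) x) =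
      (resT M (bxSnd T U) ∘ₗ res₀ M U).liftBaseChange (Fn T.left) x := by
  induction x using TensorProduct.induction_on with
  | zero => simp
  | tmul a m =>
    simp only [LinearMap.liftBaseChange_tmul, LinearMap.comp_apply, res₀_apply, resT_apply]
    rw [res_smul, ← res_comp, ← res_comp, Over.w (bxSnd T U), Over.w (bxFst T U)]
    rfl
  | add x y hx hy => simp only [map_add, hx, hy]

variable (hE : Aff E) (c : Cov E) (hc : ∀ k, Cart M (c.T k).left)
include hE hc

theorem isBC_member (k : Fin c.n) : IsBC M (c.T k).hom := by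
  haveI : ∀ k, Module.Flat (Fn E) (Fn (c.T k).left) := fun k => flat_over hE (c.aff k)
  have hq : ∀ l, IsBaseChange (Fn (c.T k).left) (resT M (bxSnd (c.T k) (c.T l))) := fun l =>
    isBaseChange_bx M hE (c.aff k) (c.aff l) (hc l _ _ (aff_bx hE (c.aff k) (c.aff l)))
  refine (isBC_iff M (c.T k)).2 ((isBaseChange_iff_bijective _).2 ⟨(injective_iff_map_eq_zero _).2 fun x hx => ?_,
    fun t => ?_⟩)
  · refine injective_glue (C := fun k => Fn (c.T k).left)
      (Mkl := fun k l => sectModEt M (bx (c.T k) (c.T l)).left) k (fun l => res₀ M (c.T l))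
      (fun y hy => c.ext M hy) (fun l => resT M (bxSnd (c.T k) (c.T l)))
      (fun l => ((isBaseChange_iff_bijective _).1 (hq l)).1) x fun l => ?_
    rw [← res_fst_lift, hx, map_zero]
  · let d : ∀ i j, (∀ l, sectModEt M (c.T l).left) →ₗ[Fn E] sectModEt M (bx (c.T i) (c.T j)).left := fun i j =>
      resT M (bxFst (c.T i) (c.T j)) ∘ₗ LinearMap.proj i - resT M (bxSnd (c.T i) (c.T j)) ∘ₗ LinearMap.proj j
    let α : ∀ i j, bx (c.T k) (bx (c.T i) (c.T j)) ⟶ bx (c.T k) (c.T i) := fun i j =>
      bxLift (bxFst _ _) (bxSnd _ _ ≫ bxFst (c.T i) (c.T j))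
    let β : ∀ i j, bx (c.T k) (bx (c.T i) (c.T j)) ⟶ bx (c.T k) (c.T j) := fun i j =>
      bxLift (bxFst _ _) (bxSnd _ _ ≫ bxSnd (c.T i) (c.T j))
    let D : ∀ i j, (∀ l, sectModEt M (bx (c.T k) (c.T l)).left) →ₗ[Fn (c.T k).left]
        sectModEt M (bx (c.T k) (bx (c.T i) (c.T j))).left := fun i j =>
      { toFun := fun v => res M (α i j).left (v i) - res M (β i j).left (v j)
        map_add' := fun v w => by simp only [Pi.add_apply, map_add]; abel
        map_smul' := fun a v => by
          have h1 : rmap (α i j).left (rmap (bxFst (c.T k) (c.T i)).left a) =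
              rmap (bxFst (c.T k) (bx (c.T i) (c.T j))).left a := by
            rw [← rmap_comp, ← Over.comp_left, bxLift_fst]
          have h2 : rmap (β i j).left (rmap (bxFst (c.T k) (c.T j)).left a) =
              rmap (bxFst (c.T k) (bx (c.T i) (c.T j))).left a := by
            rw [← rmap_comp, ← Over.comp_left, bxLift_fst]
          change res M (α i j).left (rmap (bxFst (c.T k) (c.T i)).left a • v i) -
              res M (β i j).left (rmap (bxFst (c.T k) (c.T j)).left a • v j) =
            rmap (bxFst (c.T k) (bx (c.T i) (c.T j))).left a •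
              (res M (α i j).left (v i) - res M (β i j).left (v j))
          rw [res_smul, res_smul, h1, h2, smul_sub] }
    have hD : ∀ y i j, D i j (fun l => resT M (bxSnd (c.T k) (c.T l)) (y l)) =
        resT M (bxSnd (c.T k) (bx (c.T i) (c.T j))) (d i j y) := by
      intro y i j
      change res M (α i j).left (res M (bxSnd (c.T k) (c.T i)).left (y i)) -
          res M (β i j).left (res M (bxSnd (c.T k) (c.T j)).left (y j)) =
        res M (bxSnd (c.T k) (bx (c.T i) (c.T j))).left (res M (bxFst (c.T i) (c.T j)).left (y i) -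
          res M (bxSnd (c.T i) (c.T j)).left (y j))
      rw [map_sub, ← res_comp, ← res_comp, ← res_comp, ← res_comp, ← Over.comp_left, ← Over.comp_left,
        ← Over.comp_left, ← Over.comp_left, bxLift_snd, bxLift_snd]
    have hqt : ∀ i j, Function.Injective
        ((resT M (bxSnd (c.T k) (bx (c.T i) (c.T j)))).liftBaseChange (Fn (c.T k).left)) := fun i j =>
      ((isBaseChange_iff_bijective _).1 (isBaseChange_bx M hE (c.aff k) (aff_bx hE (c.aff i) (c.aff j))
        (cart_of_hom M (hc i) (bxFst (c.T i) (c.T j)).left (aff_bx hE (c.aff i) (c.aff j)) _ _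
          (aff_bx hE (c.aff k) (aff_bx hE (c.aff i) (c.aff j)))))).1
    obtain ⟨x, hx⟩ := exists_of_isBaseChange_kernel (C := fun k => Fn (c.T k).left)
      (Mkl := fun k l => sectModEt M (bx (c.T k) (c.T l)).left)
      (Mk := fun i j => sectModEt M (bx (c.T k) (bx (c.T i) (c.T j))).left) k (fun l => res₀ M (c.T l)) d
      (fun y hy => c.glue M y fun i j => sub_eq_zero.1 (hy i j))
      (fun x i j => by
        change res M (bxFst (c.T i) (c.T j)).left (res M (c.T i).hom x) -
          res M (bxSnd (c.T i) (c.T j)).left (res M (c.T j).hom x) = 0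
        rw [← res_comp, ← res_comp, Over.w (bxSnd (c.T i) (c.T j)), Over.w (bxFst (c.T i) (c.T j)), sub_self])
      (fun l => resT M (bxSnd (c.T k) (c.T l))) hq (fun i j => resT M (bxSnd (c.T k) (bx (c.T i) (c.T j))))
      hqt D hD (fun l => res M (bxFst (c.T k) (c.T l)).left t) (fun i j => by
        change res M (α i j).left (res M (bxFst (c.T k) (c.T i)).left t) -
          res M (β i j).left (res M (bxFst (c.T k) (c.T j)).left t) = 0
        rw [← res_comp, ← res_comp, ← Over.comp_left, ← Over.comp_left, bxLift_fst, bxLift_fst, sub_self])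
    refine ⟨x, ?_⟩
    rw [← sub_eq_zero]
    refine (c.pullback (c.T k).hom hE (c.aff k)).ext M fun l => ?_
    change res M (bxFst (c.T k) (c.T l)).left _ = 0
    rw [map_sub, res_fst_lift, hx, sub_self]

/-- Being a base change on all affine objects is local. -/
theorem cart_of_cov : Cart M E := by
  intro E' g hE'
  let T : Over E := Over.mk g
  let c' : Cov T.left := c.pullback g hE hE'
  haveI : ∀ k, Module.Flat (Fn T.left) (Fn (c'.T k).left) := fun k => flat_over hE' (c'.aff k)
  have hc' : ∀ k, Cart M (c'.T k).left := fun k =>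
    cart_of_hom M (hc k) (EtOver.pullbackSnd g (c.T k).hom) (c'.aff k)
  refine (isBC_iff M T).2 ((isBaseChange_iff_bijective _).2 (bijective_of_forall_lTensor (c'.jointlySurj hE')
    (((res₀ M T).liftBaseChange (Fn T.left)).restrictScalars (Fn T.left)) fun k => ?_))
  have h1 : IsBC M (cmp T (c'.T k)).hom := by
    have e : (c'.T k).hom ≫ g = EtOver.pullbackSnd g (c.T k).hom ≫ (c.T k).hom :=
      EtOver.pullback_condition g (c.T k).hom
    change IsBC M ((c'.T k).hom ≫ g)
    rw [e]
    exact (isBC_comp_iff M (isBC_member hE c hc k) _).2 (hc k _ _ (c'.aff k))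
  have h2 : Function.Bijective ((res₀ M (c'.T k)).liftBaseChange (Fn (c'.T k).left)) :=
    (isBaseChange_iff_bijective _).1 ((isBC_iff M (c'.T k)).1 (isBC_member hE' c' hc' k))
  refine (Function.Bijective.of_comp_iff' h2 _).1 ?_
  have h3 : ⇑((res₀ M (c'.T k)).liftBaseChange (Fn (c'.T k).left)) ∘
      ⇑((((res₀ M T).liftBaseChange (Fn T.left)).restrictScalars (Fn T.left)).lTensor (Fn (c'.T k).left)) =
      ⇑(theta M LinearMap.id (cmp T (c'.T k))) ∘ ⇑(cancel T (c'.T k)) := by
    funext x
    simp only [Function.comp_apply, liftBaseChange_lTensor, ← theta_cancel]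
    rfl
  rw [h3]
  exact ((isBaseChange_iff_bijective _).1 ((isBC_iff M _).1 h1)).comp (cancel T (c'.T k)).bijective

end cov

end Groth.Agent.QCart13

end
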