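import Groth.Agent.QCart13.Abelian

/-!
# Quasi-coherent submodules: the largest one in a submodule, the part killed by an ideal
-/

set_option autoImplicit false
set_option backward.isDefEq.respectTransparency false
set_option backward.isDefEq.respectTransparency.types false

noncomputable section

universe u

open CategoryTheory CategoryTheory.Limits AlgebraicGeometry Opposite AlgSp TensorProduct

namespace Groth.Agent.QCart13

variable {S : Scheme.{u}} {X : Sp S}

/-- A submodule is a base change as soon as its sections come locally from below. -/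
theorem cart_of_mono {K F : ModEt X} (κ : K ⟶ F) [Mono κ] {E : EtOver X} (hE : Aff E) (hF : Cart F E)
    (hS : LocSurj K (LinearMap.id : sectModEt K E →ₗ[Fn E] sectModEt K E)) : Cart K E := by
  refine cart_of_locally hE (ι := LinearMap.id) (fun T hT z hz => ?_) hS
  have : Module.Flat (Fn E) (Fn T.left) := flat_over hE hT
  have hz' : z = 0 := by
    refine Module.Flat.lTensor_preserves_injective_linearMap (appL κ E) (injective_appL κ E) ?_
    refine (bijective_bcMor hF T hT).1 ?_
    rw [← appL_bcMor, ← appL_bcMor, ← theta_id, hz]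
    simp only [map_zero]
  exact ⟨⊤, (etTop X).top_mem _, fun T' h _ _ => by rw [hz', map_zero]⟩

section largest

variable (G : ModEt X)

/-- The sections coming from quasi-coherent modules. -/
def qcohSub : G.val.Submodule where
  obj W := Submodule.span _
    {x | ∃ (H : ModEt X) (_ : H.IsQuasicoherent) (φ : H ⟶ G) (h : H.val.obj W), (φ.val.app W).hom h = x}
  map {W V} g := by
    rw [Submodule.span_le]
    rintro _ ⟨H, hH, φ, h, rfl⟩
    rw [SetLike.mem_coe, Submodule.mem_comap]
    exact Submodule.subset_span ⟨H, hH, φ, H.val.map g h, PresheafOfModules.naturality_apply φ.val g h⟩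

theorem mem_qcohSub {H : ModEt X} [H.IsQuasicoherent] (φ : H ⟶ G) (W : EtOver X) (h : sectModEt H W) :
    appL φ W h ∈ (qcohSub G).obj (op W) :=
  Submodule.subset_span ⟨H, inferInstance, φ, h, rfl⟩

/-- The map of a quasi-coherent module to the largest quasi-coherent submodule. -/
def qcohLift {H : ModEt X} [H.IsQuasicoherent] (φ : H ⟶ G) : H ⟶ Gen.satSheaf (qcohSub G) :=
  Gen.satLift _ φ fun W d => Gen.le_sat _ (mem_qcohSub G φ W d)

theorem isQuasicoherent_largest {F : ModEt X} [F.IsQuasicoherent] (ι : G ⟶ F) [Mono ι] :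
    (Gen.satSheaf (qcohSub G)).IsQuasicoherent := by
  haveI := Gen.mono_satι (qcohSub G)
  refine isQuasicoherent_of_cart _ fun E hE => cart_of_mono (Gen.satι (qcohSub G) ≫ ι) hE
    (cart_of_isQuasicoherent F hE) fun T hT s => ⟨_, s.2, fun T' f hT' hf => ?_⟩
  let K := Gen.satSheaf (qcohSub G)
  have key : ∀ x, x ∈ (qcohSub G).obj (op T'.left) → ∃ z : Fn T'.left ⊗[Fn E] sectModEt K E,
      appL (Gen.satι (qcohSub G)) T'.left (bcMor K T' z) = x := by
    intro x hx
    induction hx using Submodule.span_induction with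
    | zero => exact ⟨0, by simp⟩
    | add x y _ _ hx hy =>
      obtain ⟨a, ha⟩ := hx
      obtain ⟨b, hb⟩ := hy
      exact ⟨a + b, by rw [map_add, map_add, ha, hb]⟩
    | smul r x _ hx =>
      obtain ⟨a, ha⟩ := hx
      refine ⟨(show Fn T'.left from r.down) • a, ?_⟩
      rw [map_smul, map_smul, ha]
      rfl
    | mem x hx =>
      obtain ⟨H, hH, φ, h, rfl⟩ := hx
      obtain ⟨w, rfl⟩ := (bijective_bcMor (cart_of_isQuasicoherent H hE) T' hT').2 h
      refine ⟨(appL (qcohLift G φ) E).lTensor (Fn T'.left) w, ?_⟩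
      rw [← appL_bcMor, appL_appL]
      exact congrArg (fun k : H ⟶ G => appL k T'.left (bcMor H T' w)) (Gen.satLift_ι _ φ _)
  obtain ⟨z, hz⟩ := key _ hf
  exact ⟨z, injective_appL (Gen.satι (qcohSub G)) _ hz⟩

theorem bijective_comp_satι (H : ModEt X) [H.IsQuasicoherent] :
    Function.Bijective fun φ : H ⟶ Gen.satSheaf (qcohSub G) => φ ≫ Gen.satι (qcohSub G) :=
  haveI := Gen.mono_satι (qcohSub G)
  ⟨fun _ _ h => (cancel_mono _).1 h, fun φ => ⟨qcohLift G φ, Gen.satLift_ι _ φ _⟩⟩

end largest

section ann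

variable (I : IdealEt X) (F : ModEt X)

/-- The sections killed by an ideal on all affine objects. -/
def annSub : F.val.Submodule where
  obj W :=
    { carrier := {x | ∀ (V : EtOver X) (g : V ⟶ W.unop) (hV : Aff V), ∀ a ∈ I.ideal V hV,
        a • res F g (x : sectModEt F W.unop) = 0}
      zero_mem' := fun V g hV a _ => by rw [map_zero, smul_zero]
      add_mem' := fun {x y} hx hy V g hV a ha => by
        rw [map_add, smul_add, hx V g hV a ha, hy V g hV a ha, add_zero]
      smul_mem' := fun r x hx V g hV a ha => by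
        have h : res F g (r • x : F.val.obj W) = rmap g r.down • res F g (x : sectModEt F W.unop) :=
          res_smul F g r.down (x : sectModEt F W.unop)
        rw [h, smul_comm, hx V g hV a ha, smul_zero] }
  map {W V} f x hx U g hU a ha := by
    change a • res F g (res F f.unop (x : sectModEt F W.unop)) = 0
    rw [← res_comp]
    exact hx U (g ≫ f.unop) hU a ha

theorem mem_sat_annSub_iff {I : IdealEt X} (hI : I.IsQCoh) (E : EtOver X) (hE : Aff E) (x : sectModEt F E) :
    x ∈ (Gen.sat (annSub I F)).obj (op E) ↔ ∀ a ∈ I.ideal E hE, a • x = 0 := by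
  refine ⟨fun hx a ha => ?_, fun h => Gen.le_sat _ fun V g hV a ha => ?_⟩
  · obtain ⟨c, hc⟩ := exists_cov hE hx
    refine c.ext F fun i => ?_
    rw [res_smul]
    have h := hc i (c.T i).left (𝟙 _) (c.aff i) (rmap (c.T i).hom a)
      (I.map_le (c.T i).hom hE (c.aff i) (Ideal.mem_map_of_mem _ ha))
    rwa [res_id] at h
  · have ha' : a ∈ (I.ideal E hE).map (rmap g) := hI g hE hV ha
    clear ha
    induction ha' using Submodule.span_induction with
    | mem y hy =>
      obtain ⟨b, hb, rfl⟩ := hy
      rw [← res_smul, h b hb, map_zero]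
    | zero => rw [zero_smul]
    | add y z _ _ hy hz => rw [add_smul, hy, hz, add_zero]
    | smul r y _ hy => rw [smul_eq_mul, mul_smul, hy, smul_zero]

theorem isQuasicoherent_annSub {I : IdealEt X} (hI : I.IsQCoh)
    (hft : ∀ (E : EtOver X) (hE : Aff E), (I.ideal E hE).FG) [F.IsQuasicoherent] :
    (Gen.satSheaf (annSub I F)).IsQuasicoherent := by
  haveI := Gen.mono_satι (annSub I F)
  refine isQuasicoherent_of_cart _ fun E hE => cart_of_mono (Gen.satι (annSub I F)) hE
    (cart_of_isQuasicoherent F hE) fun T hT s => ⟨⊤, (etTop X).top_mem _, fun T' f hT' _ => ?_⟩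
  let K := Gen.satSheaf (annSub I F)
  let κ : K ⟶ F := Gen.satι (annSub I F)
  have : Module.Flat (Fn E) (Fn T'.left) := flat_over hE hT'
  have hF := bijective_bcMor (cart_of_isQuasicoherent F hE) T' hT'
  obtain ⟨n, a, ha⟩ := Submodule.fg_iff_exists_fin_generating_family.1 (hft E hE)
  have hmem : ∀ i, a i ∈ I.ideal E hE := fun i => ha ▸ Submodule.subset_span ⟨i, rfl⟩
  let μ : sectModEt F E →ₗ[Fn E] (Fin n → sectModEt F E) := LinearMap.pi fun i => LinearMap.lsmul (Fn E) _ (a i)
  have hex : Function.Exact (appL κ E) μ := fun x => by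
    refine ⟨fun hx => ⟨⟨x, (mem_sat_annSub_iff F hI E hE x).2 fun b hb => ?_⟩, rfl⟩, fun ⟨y, hy⟩ => funext fun i => ?_⟩
    · rw [← ha] at hb
      induction hb using Submodule.span_induction with
      | mem y hy => obtain ⟨i, rfl⟩ := hy; exact congrFun hx i
      | zero => rw [zero_smul]
      | add y z _ _ hy hz => rw [add_smul, hy, hz, add_zero]
      | smul r y _ hy => rw [smul_eq_mul, mul_smul, hy, smul_zero]
    · exact hy ▸ (mem_sat_annSub_iff F hI E hE y.1).1 y.2 _ (hmem i)
  obtain ⟨z, hz⟩ := hF.2 (appL κ T'.left (res K f.left s))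
  have key : ∀ (i : Fin n) (w : Fn T'.left ⊗[Fn E] sectModEt F E),
      bcMor F T' (piRight (Fn E) (Fn E) (Fn T'.left) (fun _ : Fin n => sectModEt F E) (μ.lTensor _ w) i) =
        rmap T'.hom (a i) • bcMor F T' w := by
    intro i w
    induction w using TensorProduct.induction_on with
    | zero => simp
    | add x y hx hy => simp only [map_add, Pi.add_apply, smul_add, hx, hy]
    | tmul b m =>
      simp only [LinearMap.lTensor_tmul, piRight_apply, piRightHom_tmul, LinearMap.liftBaseChange_tmul,
        res₀_apply]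
      change b • res F T'.hom (a i • m) = _
      rw [res_smul, smul_smul, smul_smul, mul_comm]
  have h0 : μ.lTensor (Fn T'.left) z = 0 := by
    refine (piRight (Fn E) (Fn E) (Fn T'.left) fun _ : Fin n => sectModEt F E).injective (funext fun i => hF.1 ?_)
    rw [map_zero, Pi.zero_apply, map_zero, key, hz]
    exact (mem_sat_annSub_iff F hI T'.left hT' _).1 (res K f.left s).2 _
      (I.map_le T'.hom hE hT' (Ideal.mem_map_of_mem _ (hmem i)))
  obtain ⟨w, rfl⟩ := ((Module.Flat.lTensor_exact (Fn T'.left) hex) z).1 h0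
  rw [← appL_bcMor] at hz
  exact ⟨w, injective_appL κ _ hz⟩

theorem range_satι_annSub {I : IdealEt X} (hI : I.IsQCoh) (E : EtOver X) (hE : Aff E) :
    Set.range ((Gen.satι (annSub I F)).val.app (op E)).hom =
      {s : sectModEt F E | ∀ a ∈ I.ideal E hE, (upΓ E a) • s = 0} := by
  ext s
  refine ⟨fun ⟨y, hy⟩ => ?_, fun h => ⟨⟨s, (mem_sat_annSub_iff F hI E hE s).2 h⟩, rfl⟩⟩
  subst hy
  exact (mem_sat_annSub_iff F hI E hE y.1).1 y.2

end ann

end Groth.Agent.QCart13

end
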