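import Groth.Agent.QCart13.Ops
import Mathlib.CategoryTheory.Limits.Constructions.LimitsOfProductsAndEqualizers

/-!
# Colimits and extensions of modules with base changes as affine values
-/

set_option autoImplicit false
set_option backward.isDefEq.respectTransparency false
set_option backward.isDefEq.respectTransparency.types false

noncomputable section

universe u

open CategoryTheory CategoryTheory.Limits AlgebraicGeometry Opposite AlgSp TensorProduct

namespace Groth.Agent.QCart13

variable {S : Scheme.{u}} {X : Sp S}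

theorem exists_kernel_preimage {F G : ModEt X} (φ : F ⟶ G) (W : EtOver X) (x : sectModEt F W)
    (hx : appL φ W x = 0) : ∃ y, appL (kernel.ι φ) W y = x :=
  Gen.exists_kernel_section φ x hx

theorem cart_kernel {E : EtOver X} (hE : Aff E) {F G : ModEt X} (φ : F ⟶ G) (hF : Cart F E) (hG : Cart G E) :
    Cart (kernel φ) E :=
  cart_ker hE (kernel.ι φ) φ (kernel.condition φ) (exists_kernel_preimage φ) hF hG

/-- Locally, a section killed by a cokernel comes from the source. -/
theorem exists_local_of_cokernel {F G : ModEt X} (φ : F ⟶ G) (W : EtOver X) (y : sectModEt G W)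
    (hy : appL (cokernel.π φ) W y = 0) :
    ∃ R ∈ etTop X W, ∀ (V : EtOver X) (f : V ⟶ W), R f → ∃ x, appL φ V x = res G f y := by
  obtain ⟨k, hk⟩ := exists_kernel_preimage (cokernel.π φ) W y hy
  obtain ⟨R, hR, h⟩ := exists_local_preimage (Abelian.factorThruImage φ) k
  refine ⟨R, hR, fun V f hf => ?_⟩
  obtain ⟨x, hx⟩ := h V f hf
  refine ⟨x, ?_⟩
  rw [← hk, res_appL]
  exact (congrArg (fun j : F ⟶ G => appL j V x) (Abelian.image.fac φ).symm).trans
    (congrArg (appL (kernel.ι (cokernel.π φ)) V) hx)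

theorem cart_cokernel {E : EtOver X} (hE : Aff E) {F G : ModEt X} (φ : F ⟶ G) (hF : Cart F E) (hG : Cart G E) :
    Cart (cokernel φ) E :=
  cart_coker hE φ (cokernel.π φ) (cokernel.condition φ) (exists_local_of_cokernel φ) hF hG

theorem cart_of_iso {E : EtOver X} (hE : Aff E) {F G : ModEt X} (e : F ≅ G) (hF : Cart F E) : Cart G E :=
  cart_coker hE (0 : F ⟶ F) e.hom (zero_comp)
    (fun W y hy => ⟨⊤, (etTop X).top_mem _, fun V f _ => ⟨0, by
      have h0 : y = 0 := injective_appL e.hom W (hy.trans (map_zero _).symm)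
      rw [h0, map_zero, map_zero]⟩⟩) hF hF

section colim

variable {J : Type u} [SmallCategory J] (D : J ⥤ ModEt X) [HasColimit D]
  [HasCoproduct D.obj] [HasCoproduct fun a : (Σ p : J × J, p.1 ⟶ p.2) => D.obj a.1.1]

/-- The relations of a colimit. -/
def colimRel : (∐ fun a : (Σ p : J × J, p.1 ⟶ p.2) => D.obj a.1.1) ⟶ ∐ D.obj :=
  Sigma.desc fun a => Sigma.ι D.obj a.1.1 - D.map a.2 ≫ Sigma.ι D.obj a.1.2

theorem colimRel_desc : colimRel D ≫ Sigma.desc (colimit.ι D) = 0 :=
  Sigma.hom_ext _ _ fun a => by simp [colimRel, Preadditive.sub_comp]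

/-- A colimit as a cokernel. -/
def colimIso : cokernel (colimRel D) ≅ colimit D where
  hom := cokernel.desc _ (Sigma.desc (colimit.ι D)) (colimRel_desc D)
  inv := colimit.desc D
    { pt := cokernel (colimRel D)
      ι :=
        { app := fun j => Sigma.ι D.obj j ≫ cokernel.π (colimRel D)
          naturality := fun i j f => by
            have h := congrArg
              (fun g => Sigma.ι (fun a : (Σ p : J × J, p.1 ⟶ p.2) => D.obj a.1.1) ⟨⟨i, j⟩, f⟩ ≫ g)
              (cokernel.condition (colimRel D))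
            rw [← Category.assoc, show Sigma.ι (fun a : (Σ p : J × J, p.1 ⟶ p.2) => D.obj a.1.1) ⟨⟨i, j⟩, f⟩ ≫ colimRel D =
              Sigma.ι D.obj i - D.map f ≫ Sigma.ι D.obj j from Sigma.ι_desc _ _, comp_zero, Preadditive.sub_comp,
              sub_eq_zero] at h
            simpa [Category.assoc] using h.symm } }
  hom_inv_id := coequalizer.hom_ext (Sigma.hom_ext _ _ fun j => by simp)
  inv_hom_id := colimit.hom_ext fun j => by simp

theorem cart_colimit {E : EtOver X} (hE : Aff E) (hD : ∀ j, Cart (D.obj j) E) : Cart (colimit D) E :=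
  cart_of_iso hE (colimIso D)
    (cart_cokernel hE (colimRel D) (cart_sigma _ hE fun a => hD a.1.1) (cart_sigma _ hE hD))

end colim

section coboundary

variable (M₁ : ModEt X) {E : EtOver X} (c : Cov E)

/-- The first map from a triple overlap to a double overlap. -/
def triFst (k i j : Fin c.n) : bx (c.T k) (bx (c.T i) (c.T j)) ⟶ bx (c.T k) (c.T i) :=
  bxLift (bxFst _ _) (bxSnd _ _ ≫ bxFst (c.T i) (c.T j))

/-- The second map from a triple overlap to a double overlap. -/
def triSnd (k i j : Fin c.n) : bx (c.T k) (bx (c.T i) (c.T j)) ⟶ bx (c.T k) (c.T j) :=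
  bxLift (bxFst _ _) (bxSnd _ _ ≫ bxSnd (c.T i) (c.T j))

theorem triFst_fst (k i j : Fin c.n) :
    (triFst c k i j).left ≫ (bxFst (c.T k) (c.T i)).left = (bxFst (c.T k) (bx (c.T i) (c.T j))).left := by
  rw [← Over.comp_left, triFst, bxLift_fst]

theorem triSnd_fst (k i j : Fin c.n) :
    (triSnd c k i j).left ≫ (bxFst (c.T k) (c.T j)).left = (bxFst (c.T k) (bx (c.T i) (c.T j))).left := by
  rw [← Over.comp_left, triSnd, bxLift_fst]

theorem triFst_snd (k i j : Fin c.n) :
    (triFst c k i j).left ≫ (bxSnd (c.T k) (c.T i)).left =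
      (bxSnd (c.T k) (bx (c.T i) (c.T j))).left ≫ (bxFst (c.T i) (c.T j)).left := by
  rw [← Over.comp_left, triFst, bxLift_snd, Over.comp_left]

theorem triSnd_snd (k i j : Fin c.n) :
    (triSnd c k i j).left ≫ (bxSnd (c.T k) (c.T j)).left =
      (bxSnd (c.T k) (bx (c.T i) (c.T j))).left ≫ (bxSnd (c.T i) (c.T j)).left := by
  rw [← Over.comp_left, triSnd, bxLift_snd, Over.comp_left]

/-- The coboundary over a member of a covering. -/
def triD (k : Fin c.n) : (∀ l, sectModEt M₁ (bx (c.T k) (c.T l)).left) →ₗ[Fn (c.T k).left]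
    ∀ p : Fin c.n × Fin c.n, sectModEt M₁ (bx (c.T k) (bx (c.T p.1) (c.T p.2))).left where
  toFun v p := res M₁ (triFst c k p.1 p.2).left (v p.1) - res M₁ (triSnd c k p.1 p.2).left (v p.2)
  map_add' v w := funext fun p => by simp only [Pi.add_apply, map_add]; abel
  map_smul' a v := funext fun p => by
    change res M₁ (triFst c k p.1 p.2).left (rmap (bxFst (c.T k) (c.T p.1)).left a • v p.1) -
        res M₁ (triSnd c k p.1 p.2).left (rmap (bxFst (c.T k) (c.T p.2)).left a • v p.2) =
      rmap (bxFst (c.T k) (bx (c.T p.1) (c.T p.2))).left a •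
        (res M₁ (triFst c k p.1 p.2).left (v p.1) - res M₁ (triSnd c k p.1 p.2).left (v p.2))
    rw [res_smul, res_smul, ← rmap_comp, ← rmap_comp, triFst_fst, triSnd_fst, smul_sub]

/-- The coboundary on the covering. -/
def cobd : (∀ l, sectModEt M₁ (c.T l).left) →ₗ[Fn E]
    ∀ p : Fin c.n × Fin c.n, sectModEt M₁ (bx (c.T p.1) (c.T p.2)).left :=
  LinearMap.pi fun p => resT M₁ (bxFst (c.T p.1) (c.T p.2)) ∘ₗ LinearMap.proj p.1 -
    resT M₁ (bxSnd (c.T p.1) (c.T p.2)) ∘ₗ LinearMap.proj p.2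

/-- Restriction of a cochain to a member of the covering. -/
def triRes (k : Fin c.n) : (∀ p : Fin c.n × Fin c.n, sectModEt M₁ (bx (c.T p.1) (c.T p.2)).left) →ₗ[Fn E]
    ∀ p : Fin c.n × Fin c.n, sectModEt M₁ (bx (c.T k) (bx (c.T p.1) (c.T p.2))).left :=
  piMap' fun p => resT M₁ (bxSnd (c.T k) (bx (c.T p.1) (c.T p.2)))

theorem triD_restrict (k : Fin c.n) (y : ∀ l, sectModEt M₁ (c.T l).left) :
    triD M₁ c k (fun l => resT M₁ (bxSnd (c.T k) (c.T l)) (y l)) = triRes M₁ c k (cobd M₁ c y) := by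
  funext p
  change res M₁ (triFst c k p.1 p.2).left (res M₁ (bxSnd (c.T k) (c.T p.1)).left (y p.1)) -
      res M₁ (triSnd c k p.1 p.2).left (res M₁ (bxSnd (c.T k) (c.T p.2)).left (y p.2)) =
    res M₁ (bxSnd (c.T k) (bx (c.T p.1) (c.T p.2))).left (res M₁ (bxFst (c.T p.1) (c.T p.2)).left (y p.1) -
      res M₁ (bxSnd (c.T p.1) (c.T p.2)).left (y p.2))
  rw [map_sub, ← res_comp, ← res_comp, ← res_comp, ← res_comp, triFst_snd, triSnd_snd]

variable (hE : Aff E) (h₁ : Cart M₁ E)
include hE h₁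

theorem triRes_injective (k : Fin c.n) :
    Function.Injective ((triRes M₁ c k).liftBaseChange (Fn (c.T k).left)) :=
  piMap'_injective' _ fun p => ((isBaseChange_iff_bijective _).1 (isBaseChange_bx M₁ hE (c.aff k)
    (aff_bx hE (c.aff p.1) (c.aff p.2))
    (cart_of_hom M₁ h₁ (bx (c.T p.1) (c.T p.2)).hom (aff_bx hE (c.aff p.1) (c.aff p.2)) _ _
      (aff_bx hE (c.aff k) (aff_bx hE (c.aff p.1) (c.aff p.2)))))).1

/-- A one cochain which is a coboundary over every member of a covering is a coboundary. -/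
theorem exists_coboundary (z : ∀ p : Fin c.n × Fin c.n, sectModEt M₁ (bx (c.T p.1) (c.T p.2)).left)
    (hv : ∀ k, ∃ v, triD M₁ c k v = triRes M₁ c k z) : ∃ y, cobd M₁ c y = z := by
  haveI : ∀ k, Module.Flat (Fn E) (Fn (c.T k).left) := fun k => flat_over hE (c.aff k)
  exact mem_range_of_local_coboundary (C := fun k => Fn (c.T k).left)
    (Mkl := fun k l => sectModEt M₁ (bx (c.T k) (c.T l)).left)
    (T1' := fun k => ∀ p : Fin c.n × Fin c.n, sectModEt M₁ (bx (c.T k) (bx (c.T p.1) (c.T p.2))).left)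
    (c.jointlySurj hE) (cobd M₁ c) z (triRes M₁ c) (triRes_injective M₁ c hE h₁)
    (fun k l => resT M₁ (bxSnd (c.T k) (c.T l)))
    (fun k l => isBaseChange_bx M₁ hE (c.aff k) (c.aff l)
      (cart_of_hom M₁ h₁ (c.T l).hom (c.aff l) _ _ (aff_bx hE (c.aff k) (c.aff l))))
    (triD M₁ c) (triD_restrict M₁ c) hv

end coboundary

section ext

variable {M₁ M₂ M₃ : ModEt X} (f : M₁ ⟶ M₂) (g : M₂ ⟶ M₃) (w : f ≫ g = 0)
  (hlift : ∀ (W : EtOver X) (x : sectModEt M₂ W), appL g W x = 0 → ∃ y, appL f W y = x)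
  {E : EtOver X} (hE : Aff E)

include w hlift hE in
/-- Sections lift along an epimorphism whose kernel has base changes as affine values. -/
theorem surjective_of_cart_kernel [Mono f] [Epi g] (h₁ : Cart M₁ E) (s : sectModEt M₃ E) :
    ∃ x, appL g E x = s := by
  obtain ⟨R, hR, hR'⟩ := exists_local_preimage g s
  obtain ⟨c, hc⟩ := exists_cov hE hR
  haveI : ∀ k, Module.Flat (Fn E) (Fn (c.T k).left) := fun k => flat_over hE (c.aff k)
  choose t ht using fun k => hR' _ _ (hc k)
  have hg : ∀ i j, appL g (bx (c.T i) (c.T j)).left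
      (res M₂ (bxFst (c.T i) (c.T j)).left (t i) - res M₂ (bxSnd (c.T i) (c.T j)).left (t j)) = 0 := fun i j => by
    rw [map_sub, ← res_appL, ← res_appL, ht, ht, ← res_comp, ← res_comp, Over.w (bxSnd (c.T i) (c.T j)),
      Over.w (bxFst (c.T i) (c.T j)), sub_self]
  choose m hm using fun i j => hlift _ _ (hg i j)
  obtain ⟨y, hy⟩ := exists_coboundary M₁ c hE h₁ (fun p => m p.1 p.2) fun k => ⟨fun l => -m k l, funext fun p => by
    refine injective_appL f _ ?_
    change appL f _ (res M₁ (triFst c k p.1 p.2).left (-m k p.1) - res M₁ (triSnd c k p.1 p.2).left (-m k p.2)) =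
      appL f _ (res M₁ (bxSnd (c.T k) (bx (c.T p.1) (c.T p.2))).left (m p.1 p.2))
    rw [map_sub, ← res_appL, ← res_appL, ← res_appL]
    simp only [map_neg, hm]
    simp only [map_neg, map_sub, ← res_comp, triFst_fst, triSnd_fst, triFst_snd, triSnd_snd]
    abel⟩
  let y' : ∀ l, sectModEt M₂ (c.T l).left := fun l => t l - appL f _ (y l)
  obtain ⟨x, hx⟩ := c.glue M₂ y' fun i j => by
    have e := congrArg (appL f (bx (c.T i) (c.T j)).left) (congrFun hy (i, j))
    change appL f _ (res M₁ (bxFst (c.T i) (c.T j)).left (y i) -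
      res M₁ (bxSnd (c.T i) (c.T j)).left (y j)) = appL f _ (m i j) at e
    rw [map_sub, ← res_appL, ← res_appL, hm] at e
    change res M₂ _ (t i - appL f _ (y i)) = res M₂ _ (t j - appL f _ (y j))
    rw [map_sub, map_sub, sub_eq_sub_iff_sub_eq_sub]
    exact e.symm
  refine ⟨x, sub_eq_zero.1 (c.ext M₃ fun l => ?_)⟩
  rw [map_sub, res_appL, hx, sub_eq_zero]
  change appL g _ (t l - appL f _ (y l)) = _
  rw [map_sub, appL_appL, w, ht]
  exact sub_zero _

include w hlift hE in
/-- Extensions have base changes as affine values. -/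
theorem cart_ext [Mono f] [Epi g] (h₁ : Cart M₁ E) (h₃ : Cart M₃ E) : Cart M₂ E := by
  intro E' h hE'
  let T : Over E := Over.mk h
  refine (isBC_iff M₂ T).2 ((isBaseChange_iff_bijective _).2 ⟨(injective_iff_map_eq_zero _).2 fun z hz => ?_,
    fun s => ?_⟩)
  · have hex : Function.Exact (appL f E) (appL g E) := fun x =>
      ⟨hlift E x, fun ⟨y, hy⟩ => by rw [← hy, appL_appL, w]; rfl⟩
    have : Module.Flat (Fn E) (Fn T.left) := flat_over hE hE'
    have h0 : (appL g E).lTensor (Fn T.left) z = 0 := by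
      refine (bijective_bcMor h₃ T hE').1 ?_
      rw [← appL_bcMor, hz, map_zero, map_zero]
    obtain ⟨u, rfl⟩ := ((Module.Flat.lTensor_exact (Fn T.left) hex) z).1 h0
    have h1 : u = 0 := by
      refine (bijective_bcMor h₁ T hE').1 (injective_appL f _ ?_)
      rw [appL_bcMor, hz, map_zero, map_zero]
    rw [h1, map_zero]
  · obtain ⟨a, ha⟩ := (bijective_bcMor h₃ T hE').2 (appL g T.left s)
    obtain ⟨b, rfl⟩ := LinearMap.lTensor_surjective (Fn T.left)
      (surjective_of_cart_kernel f g w hlift hE h₁) a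
    rw [← appL_bcMor] at ha
    obtain ⟨y, hy⟩ := hlift _ (s - bcMor M₂ T b) (by rw [map_sub, ha, sub_self])
    obtain ⟨u, rfl⟩ := (bijective_bcMor h₁ T hE').2 y
    refine ⟨b + (appL f E).lTensor (Fn T.left) u, ?_⟩
    rw [map_add, ← appL_bcMor, hy]
    exact add_sub_cancel _ _

end ext

end Groth.Agent.QCart13

end
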