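import Mathlib.RingTheory.IsTensorProduct
import Mathlib.RingTheory.Flat.Basic
import Mathlib.RingTheory.Flat.Stability
import Mathlib.RingTheory.Ideal.Quotient.Operations
import Mathlib.LinearAlgebra.TensorProduct.Pi
import Mathlib.LinearAlgebra.TensorProduct.RightExactness
import Mathlib.RingTheory.TensorProduct.Basic
import Mathlib.RingTheory.Spectrum.Prime.Basic

/-!
# Modules along a finite jointly surjective family of flat algebras

Elementary statements used to treat quasi-coherent modules on a small etale site through their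
values on affine objects: detection of zero and of bijectivity after a jointly surjective family of
flat extensions, transfer of base change along a pushout, and the three gluing statements in degrees
zero and one.
-/

set_option autoImplicit false

noncomputable section

universe u w w'

open TensorProduct

namespace Groth.Agent.QCart13

section lift

variable {A : Type u} [CommRing A] {B : Type u} [CommRing B] [Algebra A B]
  {M : Type w} [AddCommGroup M] [Module A M]
  {N : Type w'} [AddCommGroup N] [Module A N] [Module B N] [IsScalarTower A B N]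

theorem isBaseChange_iff_bijective (f : M →ₗ[A] N) :
    IsBaseChange B f ↔ Function.Bijective (f.liftBaseChange B) := by
  have h : ∀ x, TensorProduct.lift
      (((Algebra.linearMap B <| Module.End B (M →ₗ[A] N)).flip f).restrictScalars A) x =
      f.liftBaseChange B x := by
    intro x
    induction x using TensorProduct.induction_on with
    | zero => simp
    | tmul b m => simp
    | add x y hx hy => simp only [map_add, hx, hy]
  exact iff_of_eq (congrArg Function.Bijective (funext h))

theorem liftBaseChange_lTensor {M' : Type*} [AddCommGroup M'] [Module A M'] (f : M →ₗ[A] N)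
    (g : M' →ₗ[A] M) (x : B ⊗[A] M') :
    f.liftBaseChange B (g.lTensor B x) = (f ∘ₗ g).liftBaseChange B x := by
  induction x using TensorProduct.induction_on with
  | zero => simp
  | tmul b m => simp
  | add x y hx hy => simp only [map_add, hx, hy]

theorem apply_liftBaseChange {P : Type*} [AddCommGroup P] [Module A P] [Module B P] [IsScalarTower A B P]
    (h : N →ₗ[B] P) (f : M →ₗ[A] N) (x : B ⊗[A] M) :
    h (f.liftBaseChange B x) = (h.restrictScalars A ∘ₗ f).liftBaseChange B x := by
  induction x using TensorProduct.induction_on with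
  | zero => simp
  | tmul b m => simp
  | add x y hx hy => simp only [map_add, hx, hy]

theorem exists_liftBaseChange_eq_of_isBaseChange {f : M →ₗ[A] N} (hf : IsBaseChange B f) (n : N) :
    ∃ x, f.liftBaseChange B x = n :=
  ((isBaseChange_iff_bijective f).1 hf).2 n

theorem exists_lTensor_ker {P : Type*} [AddCommGroup P] [Module A P] (g : M →ₗ[A] P) (hg : Function.Surjective g)
    (z : B ⊗[A] M) (h : g.lTensor B z = 0) : ∃ w, (LinearMap.ker g).subtype.lTensor B w = z :=
  ((lTensor_exact B (LinearMap.exact_subtype_ker_map g) hg) z).1 h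

end lift

section pi

variable {A : Type u} [CommRing A] {B : Type u} [CommRing B] [Algebra A B]
  {ι : Type*} [Finite ι] {M : ι → Type w} [∀ i, AddCommGroup (M i)] [∀ i, Module A (M i)]
  {N : ι → Type w'} [∀ i, AddCommGroup (N i)] [∀ i, Module A (N i)] [∀ i, Module B (N i)]
  [∀ i, IsScalarTower A B (N i)]

/-- The product of the maps of a family. -/
def piMap' (f : ∀ i, M i →ₗ[A] N i) : (∀ i, M i) →ₗ[A] ∀ i, N i :=
  LinearMap.pi fun i => f i ∘ₗ LinearMap.proj i

omit [Finite ι] [∀ i, Module B (N i)] [∀ i, IsScalarTower A B (N i)] in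
@[simp] theorem piMap'_apply (f : ∀ i, M i →ₗ[A] N i) (m : ∀ i, M i) (i : ι) :
    piMap' f m i = f i (m i) := rfl

theorem piMap'_bijective (f : ∀ i, M i →ₗ[A] N i) (hf : ∀ i, IsBaseChange B (f i)) :
    Function.Bijective ((piMap' f).liftBaseChange B) := by
  classical
  have := Fintype.ofFinite ι
  have key : ∀ (x : B ⊗[A] ∀ i, M i) (i : ι),
      (piMap' f).liftBaseChange B x i = (f i).liftBaseChange B (piRight A A B M x i) := by
    intro x i
    induction x using TensorProduct.induction_on with
    | zero => simp
    | tmul b m => simp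
    | add x y hx hy => simp only [map_add, Pi.add_apply, hx, hy]
  refine ⟨fun x y h => (piRight A A B M).injective (funext fun i => ?_), fun n => ?_⟩
  · exact ((isBaseChange_iff_bijective _).1 (hf i)).1 (by rw [← key, ← key, h])
  · choose z hz using fun i => ((isBaseChange_iff_bijective _).1 (hf i)).2 (n i)
    refine ⟨(piRight A A B M).symm z, funext fun i => ?_⟩
    rw [key, LinearEquiv.apply_symm_apply, hz]

theorem piMap'_injective' (f : ∀ i, M i →ₗ[A] N i) (h : ∀ i, Function.Injective ((f i).liftBaseChange B)) :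
    Function.Injective ((piMap' f).liftBaseChange B) := by
  classical
  have := Fintype.ofFinite ι
  have key : ∀ (x : B ⊗[A] ∀ i, M i) (i : ι),
      (piMap' f).liftBaseChange B x i = (f i).liftBaseChange B (piRight A A B M x i) := by
    intro x i
    induction x using TensorProduct.induction_on with
    | zero => simp
    | tmul b m => simp
    | add x y hx hy => simp only [map_add, Pi.add_apply, hx, hy]
  exact fun x y e => (piRight A A B M).injective (funext fun i => h i (by rw [← key, ← key, e]))

end pi

section pushout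

variable {A : Type u} [CommRing A] {B : Type u} [CommRing B] [Algebra A B]
  {C : Type u} [CommRing C] [Algebra A C] {D : Type u} [CommRing D] [Algebra A D] [Algebra B D] [Algebra C D]
  [IsScalarTower A B D] [IsScalarTower A C D]
  {M : Type w} [AddCommGroup M] [Module A M] [Module B M] [IsScalarTower A B M]
  {N : Type w'} [AddCommGroup N] [Module A N] [Module B N] [Module C N] [Module D N]
  [IsScalarTower B D N] [IsScalarTower C D N] [IsScalarTower A C N] [IsScalarTower A B N]

/-- A base change along one side of a pushout of rings is a base change along the other side. -/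
theorem isBaseChange_of_pushout [Algebra.IsPushout A C B D] (f : M →ₗ[B] N) (hf : IsBaseChange D f) :
    IsBaseChange C (f.restrictScalars A) := by
  rw [isBaseChange_iff_bijective] at hf ⊢
  let e := Algebra.IsPushout.cancelBaseChange A C B D M
  have key : ∀ x, (f.restrictScalars A).liftBaseChange C x = f.liftBaseChange D (e.symm x) := by
    intro x
    induction x using TensorProduct.induction_on with
    | zero => simp
    | tmul c m =>
      simp only [e, Algebra.IsPushout.cancelBaseChange_symm_tmul, LinearMap.liftBaseChange_tmul,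
        LinearMap.restrictScalars_apply]
      exact (algebraMap_smul D c (f m)).symm
    | add x y hx hy => simp only [map_add, hx, hy]
  have : ⇑((f.restrictScalars A).liftBaseChange C) = f.liftBaseChange D ∘ e.symm := funext key
  rw [this]
  exact hf.comp e.symm.bijective

variable (A B C D) in
omit [Module B M] [IsScalarTower A B M] in
/-- The extended map of a module along one side of a pushout is a base change along the other. -/
theorem isBaseChange_rTensor [Algebra.IsPushout A C B D] :
    IsBaseChange C (((IsScalarTower.toAlgHom A B D).toLinearMap).rTensor M) := by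
  let Φ : B ⊗[A] M →ₗ[B] D ⊗[A] M :=
    TensorProduct.AlgebraTensorModule.rTensor A M (IsScalarTower.toAlgHom B B D).toLinearMap
  have hΦ : IsBaseChange D Φ := by
    refine IsBaseChange.of_comp (TensorProduct.isBaseChange A M B) ?_
    have e : Φ.restrictScalars A ∘ₗ TensorProduct.mk A B M 1 = TensorProduct.mk A D M 1 := by
      refine LinearMap.ext fun n => ?_
      simp [Φ]
    rw [e]
    exact TensorProduct.isBaseChange _ _ _
  have e : ((IsScalarTower.toAlgHom A B D).toLinearMap).rTensor M = Φ.restrictScalars A :=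
    TensorProduct.ext' fun b n => rfl
  rw [e]
  exact isBaseChange_of_pushout Φ hΦ

end pushout

section detect

variable {B : Type u} [CommRing B] {ι : Type*} {C : ι → Type u} [∀ k, CommRing (C k)]
  [∀ k, Algebra B (C k)] [∀ k, Module.Flat B (C k)]

variable (C) in
/-- The spectra of the algebras cover the spectrum. -/
def JointlySurj (B : Type u) [CommRing B] [∀ k, Algebra B (C k)] : Prop :=
  ∀ m : Ideal B, m.IsMaximal → ∃ k, m.map (algebraMap B (C k)) ≠ ⊤

/-- An element killed by a jointly surjective family of flat extensions is zero. -/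
theorem eq_zero_of_forall_tmul {P : Type w} [AddCommGroup P] [Module B P] (hC : JointlySurj C B) (x : P)
    (h : ∀ k, (1 : C k) ⊗ₜ[B] x = (0 : C k ⊗[B] P)) : x = 0 := by
  by_contra hx
  let I : Ideal B := LinearMap.ker (LinearMap.toSpanSingleton B P x)
  obtain ⟨m, hm, hle⟩ := Ideal.exists_le_maximal I (fun e => hx (by
    have h1 : (1 : B) ∈ I := by rw [e]; exact Submodule.mem_top
    simpa [I] using h1))
  obtain ⟨k, hk⟩ := hC m hm
  refine hk ((Ideal.eq_top_iff_one _).2 (Ideal.map_mono hle ?_))
  have hexact : Function.Exact I.subtype (LinearMap.toSpanSingleton B P x) :=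
    LinearMap.exact_subtype_ker_map _
  have h0 : (LinearMap.toSpanSingleton B P x).lTensor (C k) ((1 : C k) ⊗ₜ[B] (1 : B)) = 0 := by
    rw [LinearMap.lTensor_tmul, LinearMap.toSpanSingleton_apply, one_smul]
    exact h k
  obtain ⟨z, hz⟩ := ((Module.Flat.lTensor_exact (C k) hexact) _).1 h0
  have key : ∀ z : C k ⊗[B] I, TensorProduct.rid B (C k) (I.subtype.lTensor (C k) z) ∈
      I.map (algebraMap B (C k)) := by
    intro z
    induction z using TensorProduct.induction_on with
    | zero => simp
    | tmul c i =>
      rw [LinearMap.lTensor_tmul, TensorProduct.rid_tmul, Algebra.smul_def]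
      exact Ideal.mul_mem_right _ _ (Ideal.mem_map_of_mem _ i.2)
    | add x y hx hy => rw [map_add, map_add]; exact add_mem hx hy
  simpa [hz] using key z

/-- A linear map that becomes bijective over a jointly surjective family of flat extensions is bijective. -/
theorem bijective_of_forall_lTensor {P : Type w} [AddCommGroup P] [Module B P] {Q : Type w'}
    [AddCommGroup Q] [Module B Q] (hC : JointlySurj C B) (f : P →ₗ[B] Q)
    (h : ∀ k, Function.Bijective (f.lTensor (C k))) : Function.Bijective f := by
  refine ⟨(injective_iff_map_eq_zero f).2 fun x hx => eq_zero_of_forall_tmul hC x fun k => ?_, fun q => ?_⟩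
  · refine (h k).1 ?_
    rw [LinearMap.lTensor_tmul, hx, tmul_zero, map_zero]
  · have hq : Submodule.mkQ (LinearMap.range f) q = 0 := eq_zero_of_forall_tmul hC _ fun k => by
      obtain ⟨z, hz⟩ := (h k).2 ((1 : C k) ⊗ₜ[B] q)
      have h2 : (Submodule.mkQ (LinearMap.range f) ∘ₗ f).lTensor (C k) z = 0 := by
        rw [show Submodule.mkQ (LinearMap.range f) ∘ₗ f = 0 from
          LinearMap.ext fun p => (Submodule.Quotient.mk_eq_zero _).2 ⟨p, rfl⟩]
        simp
      rw [LinearMap.lTensor_comp_apply, hz, LinearMap.lTensor_tmul] at h2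
      exact h2
    exact (Submodule.Quotient.mk_eq_zero _).1 hq

end detect

section glue

variable {A : Type u} [CommRing A] {ι : Type*} [Finite ι] {C : ι → Type u} [∀ k, CommRing (C k)]
  [∀ k, Algebra A (C k)] [∀ k, Module.Flat A (C k)]
  {M : Type w} [AddCommGroup M] [Module A M]
  {Ml : ι → Type w} [∀ l, AddCommGroup (Ml l)] [∀ l, Module A (Ml l)]
  {Mkl : ι → ι → Type w} [∀ k l, AddCommGroup (Mkl k l)] [∀ k l, Module A (Mkl k l)]
  [∀ k l, Module (C k) (Mkl k l)] [∀ k l, IsScalarTower A (C k) (Mkl k l)]

omit [∀ k, Module.Flat A (C k)] in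
theorem piMap'_injective (k : ι) (q : ∀ l, Ml l →ₗ[A] Mkl k l)
    (h : ∀ l, Function.Injective ((q l).liftBaseChange (C k))) :
    Function.Injective ((piMap' q).liftBaseChange (C k)) := by
  classical
  have := Fintype.ofFinite ι
  have key : ∀ (x : C k ⊗[A] ∀ i, Ml i) (i : ι),
      (piMap' q).liftBaseChange (C k) x i = (q i).liftBaseChange (C k) (piRight A A (C k) Ml x i) := by
    intro x i
    induction x using TensorProduct.induction_on with
    | zero => simp
    | tmul b m => simp
    | add x y hx hy => simp only [map_add, Pi.add_apply, hx, hy]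
  exact fun x y e => (piRight A A (C k) Ml).injective (funext fun i => h i (by rw [← key, ← key, e]))

/-- Descent of a section which locally comes from a module whose base changes embed. -/
theorem mem_range_of_local (hC : JointlySurj C A) {P : Type w} [AddCommGroup P] [Module A P]
    (θ : P →ₗ[A] M) (r : ∀ l, M →ₗ[A] Ml l) (W : ∀ l, Submodule A (Ml l))
    (hinj : ∀ x, (∀ l, r l x = 0) → x = 0) (q : ∀ k l, Ml l →ₗ[A] Mkl k l)
    (hW : ∀ k l, Function.Injective ((q k l ∘ₗ (W l).subtype).liftBaseChange (C k)))
    (hθ : ∀ l p, r l (θ p) ∈ W l) (s : M) (hs : ∀ l, r l s ∈ W l)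
    (hz : ∀ k, ∃ z : C k ⊗[A] P, ∀ l, (q k l ∘ₗ r l ∘ₗ θ).liftBaseChange (C k) z = q k l (r l s)) :
    ∃ p, θ p = s := by
  let V : Submodule A M := ⨅ l, (W l).comap (r l)
  have hV : ∀ x, x ∈ V ↔ ∀ l, r l x ∈ W l := fun x => by simp [V]
  let R : V →ₗ[A] ∀ l, W l := LinearMap.pi fun l => ((r l).comp V.subtype).codRestrict (W l) fun x => (hV x).1 x.2 l
  have hR : Function.Injective R := (injective_iff_map_eq_zero R).2 fun x hx =>
    Subtype.ext (hinj _ fun l => congrArg Subtype.val (congrFun hx l))
  let θ' : P →ₗ[A] V := θ.codRestrict V fun p => (hV _).2 fun l => hθ l p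
  let s' : V := ⟨s, (hV _).2 hs⟩
  have hs' : Submodule.mkQ (LinearMap.range θ') s' = 0 := eq_zero_of_forall_tmul hC _ fun k => by
    obtain ⟨z, hz⟩ := hz k
    have e : θ'.lTensor (C k) z = (1 : C k) ⊗ₜ[A] s' := by
      refine Module.Flat.lTensor_preserves_injective_linearMap R hR
        (piMap'_injective k (fun l => q k l ∘ₗ (W l).subtype) (hW k) ?_)
      funext l
      rw [liftBaseChange_lTensor, liftBaseChange_lTensor, LinearMap.lTensor_tmul,
        LinearMap.liftBaseChange_tmul, one_smul]
      refine Eq.trans ?_ (hz l)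
      exact apply_liftBaseChange (LinearMap.proj (R := C k) (φ := fun l => Mkl k l) l) _ z
    have h2 : (Submodule.mkQ (LinearMap.range θ') ∘ₗ θ').lTensor (C k) z = 0 := by
      rw [show Submodule.mkQ (LinearMap.range θ') ∘ₗ θ' = 0 from
        LinearMap.ext fun p => (Submodule.Quotient.mk_eq_zero _).2 ⟨p, rfl⟩]
      simp
    rw [LinearMap.lTensor_comp_apply, e, LinearMap.lTensor_tmul] at h2
    exact h2
  obtain ⟨p, hp⟩ := (Submodule.Quotient.mk_eq_zero _).1 hs'
  exact ⟨p, congrArg Subtype.val hp⟩

omit [∀ k, Module.Flat A (C k)] in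
/-- The product of the restrictions, seen from an extension. -/
theorem pi_liftBaseChange_apply (k : ι) (r : ∀ l, M →ₗ[A] Ml l) (q : ∀ l, Ml l →ₗ[A] Mkl k l)
    (x : C k ⊗[A] M) (l : ι) :
    (piMap' q).liftBaseChange (C k) ((LinearMap.pi r).lTensor (C k) x) l =
      (q l ∘ₗ r l).liftBaseChange (C k) x := by
  rw [liftBaseChange_lTensor]
  exact apply_liftBaseChange (LinearMap.proj (R := C k) (φ := fun l => Mkl k l) l) _ x

/-- The joint restriction of an extension of scalars to the overlaps is injective. -/
theorem injective_glue (k : ι) (r : ∀ l, M →ₗ[A] Ml l) (hinj : ∀ x, (∀ l, r l x = 0) → x = 0)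
    (q : ∀ l, Ml l →ₗ[A] Mkl k l) (hq : ∀ l, Function.Injective ((q l).liftBaseChange (C k)))
    (x : C k ⊗[A] M) (hx : ∀ l, (q l ∘ₗ r l).liftBaseChange (C k) x = 0) : x = 0 := by
  have hr : Function.Injective (LinearMap.pi r) :=
    (injective_iff_map_eq_zero _).2 fun y hy => hinj y fun l => congrFun hy l
  have h1 : (LinearMap.pi r).lTensor (C k) x = 0 := by
    refine piMap'_injective k q hq ?_
    rw [map_zero]
    funext l
    rw [pi_liftBaseChange_apply, hx]
    rfl
  exact Module.Flat.lTensor_preserves_injective_linearMap _ hr (h1.trans (map_zero _).symm)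

omit [∀ k, Module.Flat A (C k)] in
/-- An extension of scalars of a kernel gives all families killed by the differential. -/
theorem exists_of_isBaseChange_kernel (k : ι) [Module.Flat A (C k)] (r : ∀ l, M →ₗ[A] Ml l)
    {Mt : ι → ι → Type w} [∀ i j, AddCommGroup (Mt i j)] [∀ i j, Module A (Mt i j)]
    {Mk : ι → ι → Type w} [∀ i j, AddCommGroup (Mk i j)] [∀ i j, Module A (Mk i j)]
    [∀ i j, Module (C k) (Mk i j)] [∀ i j, IsScalarTower A (C k) (Mk i j)]
    (d : ∀ i j, (∀ l, Ml l) →ₗ[A] Mt i j)
    (hex : ∀ y, (∀ i j, d i j y = 0) → ∃ x, ∀ l, r l x = y l)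
    (hd : ∀ x i j, d i j (fun l => r l x) = 0)
    (q : ∀ l, Ml l →ₗ[A] Mkl k l) (hq : ∀ l, IsBaseChange (C k) (q l))
    (qt : ∀ i j, Mt i j →ₗ[A] Mk i j) (hqt : ∀ i j, Function.Injective ((qt i j).liftBaseChange (C k)))
    (D : ∀ i j, (∀ l, Mkl k l) →ₗ[C k] Mk i j)
    (hD : ∀ y i j, D i j (fun l => q l (y l)) = qt i j (d i j y))
    (v : ∀ l, Mkl k l) (hv : ∀ i j, D i j v = 0) :
    ∃ x : C k ⊗[A] M, ∀ l, (q l ∘ₗ r l).liftBaseChange (C k) x = v l := by
  classical
  obtain ⟨y, hy⟩ := (piMap'_bijective q hq).2 v
  let d' : (∀ l, Ml l) →ₗ[A] ∀ p : ι × ι, Mt p.1 p.2 := LinearMap.pi fun p => d p.1 p.2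
  have hexact : Function.Exact (LinearMap.pi r) d' := fun z =>
    ⟨fun hz => (hex z fun i j => congrFun hz (i, j)).imp fun x hx => funext hx,
      fun ⟨x, hx⟩ => funext fun p => hx ▸ hd x p.1 p.2⟩
  have h0 : d'.lTensor (C k) y = 0 := by
    have := Fintype.ofFinite (ι × ι)
    refine (piRight A A (C k) fun p : ι × ι => Mt p.1 p.2).injective ?_
    rw [map_zero]
    funext p
    refine hqt p.1 p.2 ?_
    rw [Pi.zero_apply, map_zero, ← hv p.1 p.2, ← hy]
    have : ∀ z, (qt p.1 p.2).liftBaseChange (C k)
        (piRight A A (C k) (fun p : ι × ι => Mt p.1 p.2) (d'.lTensor (C k) z) p) =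
        D p.1 p.2 ((piMap' q).liftBaseChange (C k) z) := by
      intro z
      induction z using TensorProduct.induction_on with
      | zero => simp
      | tmul c m =>
        simp only [LinearMap.lTensor_tmul, piRight_apply, piRightHom_tmul, LinearMap.liftBaseChange_tmul, map_smul]
        exact congrArg (c • ·) (hD m p.1 p.2).symm
      | add x y hx hy => simp only [map_add, Pi.add_apply, hx, hy]
    exact this y
  obtain ⟨x, hx⟩ := ((Module.Flat.lTensor_exact (C k) hexact) _).1 h0
  exact ⟨x, fun l => by rw [← pi_liftBaseChange_apply, hx, hy]⟩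

/-- Degree one: a cocycle which becomes a coboundary over every member is a coboundary. -/
theorem mem_range_of_local_coboundary (hC : JointlySurj C A)
    {T1 : Type w} [AddCommGroup T1] [Module A T1] (d0 : (∀ l, Ml l) →ₗ[A] T1) (z : T1)
    {T1' : ι → Type w} [∀ k, AddCommGroup (T1' k)] [∀ k, Module A (T1' k)] [∀ k, Module (C k) (T1' k)]
    [∀ k, IsScalarTower A (C k) (T1' k)] (e : ∀ k, T1 →ₗ[A] T1' k)
    (he : ∀ k, Function.Injective ((e k).liftBaseChange (C k)))
    (q : ∀ k l, Ml l →ₗ[A] Mkl k l) (hq : ∀ k l, IsBaseChange (C k) (q k l))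
    (d0' : ∀ k, (∀ l, Mkl k l) →ₗ[C k] T1' k)
    (hd : ∀ k y, d0' k (fun l => q k l (y l)) = e k (d0 y))
    (hz : ∀ k, ∃ c, d0' k c = e k z) :
    ∃ y, d0 y = z := by
  have hz' : Submodule.mkQ (LinearMap.range d0) z = 0 := eq_zero_of_forall_tmul hC _ fun k => by
    obtain ⟨c, hc⟩ := hz k
    obtain ⟨ξ, hξ⟩ := (piMap'_bijective (q k) (hq k)).2 c
    have h1 : d0.lTensor (C k) ξ = (1 : C k) ⊗ₜ[A] z := by
      refine he k ?_
      rw [LinearMap.liftBaseChange_tmul, one_smul, ← hc, ← hξ, liftBaseChange_lTensor, apply_liftBaseChange]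
      congr 2
      exact LinearMap.ext fun y => (hd k y).symm
    have h2 : (Submodule.mkQ (LinearMap.range d0) ∘ₗ d0).lTensor (C k) ξ = 0 := by
      rw [show Submodule.mkQ (LinearMap.range d0) ∘ₗ d0 = 0 from
        LinearMap.ext fun p => (Submodule.Quotient.mk_eq_zero _).2 ⟨p, rfl⟩]
      simp
    rw [LinearMap.lTensor_comp_apply, h1, LinearMap.lTensor_tmul] at h2
    exact h2
  exact (Submodule.Quotient.mk_eq_zero _).1 hz'

end glue

end Groth.Agent.QCart13

end
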