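import Groth.Prelude.Def_AlgSpModX
import Groth.Agent.AlgSpDec.EtSite
import Groth.Agent.QCart13.Alg
import Mathlib.AlgebraicGeometry.Morphisms.Affine
import Mathlib.AlgebraicGeometry.Morphisms.Flat
import Mathlib.AlgebraicGeometry.Morphisms.Smooth

/-!
# Modules on a small etale site and their values on affine objects: restriction and base change
-/

set_option autoImplicit false
set_option backward.isDefEq.respectTransparency false
set_option backward.isDefEq.respectTransparency.types false

noncomputable section

universe u

open CategoryTheory CategoryTheory.Limits AlgebraicGeometry Opposite AlgSp TensorProduct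

namespace Groth.Agent.QCart13

variable {S : Scheme.{u}} {X : Sp S}

/-- The underlying scheme of an object is affine. -/
abbrev Aff (E : EtOver X) : Prop := IsAffine E.obj.left.left

/-- The functions on an object. -/
abbrev Fn (E : EtOver X) : Type u := Γ(E.obj.left.left, ⊤)

variable (M : ModEt X)

/-- Sections as modules over the functions. -/
scoped instance modΓ (E : EtOver X) : Module (Fn E) (sectModEt M E) :=
  Module.compHom _ (upΓ E)

theorem smul_def {E : EtOver X} (a : Fn E) (x : sectModEt M E) : a • x = upΓ E a • x := rfl

/-- Restriction of functions. -/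
def rmap {E E' : EtOver X} (g : E' ⟶ E) : Fn E →+* Fn E' := g.hom.left.left.appTop.hom

theorem rmap_id (E : EtOver X) (a : Fn E) : rmap (𝟙 E) a = a := rfl

theorem rmap_comp {E E' E'' : EtOver X} (h : E'' ⟶ E') (g : E' ⟶ E) (a : Fn E) :
    rmap (h ≫ g) a = rmap h (rmap g a) := rfl

/-- Restriction of sections. -/
def res {E E' : EtOver X} (g : E' ⟶ E) : sectModEt M E →+ sectModEt M E' :=
  (M.val.presheaf.map g.op).hom

theorem res_smul {E E' : EtOver X} (g : E' ⟶ E) (a : Fn E) (x : sectModEt M E) :
    res M g (a • x) = rmap g a • res M g x :=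
  M.val.map_smul g.op (upΓ E a) x

theorem res_id (E : EtOver X) (x : sectModEt M E) : res M (𝟙 E) x = x :=
  ConcreteCategory.congr_hom (M.val.presheaf.map_id (op E)) x

theorem res_comp {E E' E'' : EtOver X} (h : E'' ⟶ E') (g : E' ⟶ E) (x : sectModEt M E) :
    res M (h ≫ g) x = res M h (res M g x) :=
  ConcreteCategory.congr_hom (M.val.presheaf.map_comp g.op h.op) x

theorem map_hom_res {M N : ModEt X} (φ : M ⟶ N) {E E' : EtOver X} (g : E' ⟶ E) (x : sectModEt M E) :
    res N g (φ.val.app (op E) x) = φ.val.app (op E') (res M g x) :=
  (PresheafOfModules.naturality_apply φ.val g.op x).symm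

/-- A morphism of modules on the sections over an object. -/
def appL {M N : ModEt X} (φ : M ⟶ N) (E : EtOver X) : sectModEt M E →ₗ[Fn E] sectModEt N E where
  toFun x := φ.val.app (op E) x
  map_add' := map_add _
  map_smul' a x := (φ.val.app (op E)).hom.map_smul (upΓ E a) x

@[simp] theorem appL_apply {M N : ModEt X} (φ : M ⟶ N) (E : EtOver X) (x : sectModEt M E) :
    appL φ E x = φ.val.app (op E) x := rfl

theorem res_appL {M N : ModEt X} (φ : M ⟶ N) {E E' : EtOver X} (g : E' ⟶ E) (x : sectModEt M E) :
    res N g (appL φ E x) = appL φ E' (res M g x) := map_hom_res φ g x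

section pair

variable {E E' : EtOver X} (g : E' ⟶ E)

/-- Functions above as an algebra over the functions below. -/
abbrev algOf : Algebra (Fn E) (Fn E') := (rmap g).toAlgebra

/-- Sections above as a module over the functions below. -/
abbrev modOf : Module (Fn E) (sectModEt M E') := Module.compHom _ (rmap g)

theorem towerOf :
    letI := algOf g
    letI := modOf M g
    IsScalarTower (Fn E) (Fn E') (sectModEt M E') :=
  letI := algOf g
  letI := modOf M g
  IsScalarTower.of_algebraMap_smul fun _ _ => rfl

/-- Restriction as a linear map. -/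
def resL : @LinearMap (Fn E) (Fn E) _ _ (RingHom.id _) (sectModEt M E) (sectModEt M E') _ _ _ (modOf M g) :=
  letI := modOf M g
  { toFun := res M g, map_add' := map_add _, map_smul' := res_smul M g }

/-- The sections above are the base change of the sections below. -/
def IsBC : Prop :=
  letI := algOf g
  letI := modOf M g
  haveI := towerOf M g
  IsBaseChange (Fn E') (resL M g)

end pair

/-- All affine restrictions of `M` from `E` are base changes. -/
def Cart (E : EtOver X) : Prop := ∀ (E' : EtOver X) (g : E' ⟶ E), Aff E' → IsBC M g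

theorem isBC_comp_iff {E E' E'' : EtOver X} {g : E' ⟶ E} (hg : IsBC M g) (h : E'' ⟶ E') :
    IsBC M (h ≫ g) ↔ IsBC M h := by
  letI := algOf g
  letI := algOf h
  letI := algOf (h ≫ g)
  letI := modOf M g
  letI := modOf M h
  letI := modOf M (h ≫ g)
  haveI := towerOf M g
  haveI := towerOf M h
  haveI := towerOf M (h ≫ g)
  haveI : IsScalarTower (Fn E) (Fn E') (Fn E'') := IsScalarTower.of_algebraMap_eq fun a => rmap_comp h g a
  haveI : IsScalarTower (Fn E) (Fn E') (sectModEt M E'') := IsScalarTower.of_algebraMap_smul fun _ _ => rfl
  have e : resL M (h ≫ g) = (resL M h).restrictScalars (Fn E) ∘ₗ resL M g :=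
    LinearMap.ext fun x => res_comp M h g x
  change IsBaseChange (Fn E'') (resL M (h ≫ g)) ↔ IsBaseChange (Fn E'') (resL M h)
  rw [e]
  exact IsBaseChange.comp_iff (S := Fn E') (T := Fn E'') hg

theorem cart_of_hom {E E' : EtOver X} (hE : Cart M E) (g : E' ⟶ E) (hE' : Aff E') : Cart M E' :=
  fun E'' h hE'' => (isBC_comp_iff M (hE E' g hE') h).1 (hE E'' (h ≫ g) hE'')

section over

variable {E : EtOver X}

/-- Functions of an object over `E`. -/
scoped instance algT (T : Over E) : Algebra (Fn E) (Fn T.left) := algOf T.hom

/-- Sections over an object over `E` as a module over the functions of `E`. -/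
scoped instance modT (T : Over E) : Module (Fn E) (sectModEt M T.left) := modOf M T.hom

scoped instance towerT (T : Over E) : IsScalarTower (Fn E) (Fn T.left) (sectModEt M T.left) :=
  towerOf M T.hom

/-- Restriction to an object over `E`. -/
def res₀ (T : Over E) : sectModEt M E →ₗ[Fn E] sectModEt M T.left := resL M T.hom

@[simp] theorem res₀_apply (T : Over E) (x : sectModEt M E) : res₀ M T x = res M T.hom x := rfl

/-- Restriction between objects over `E`. -/
def resT {T U : Over E} (h : T ⟶ U) : sectModEt M U.left →ₗ[Fn E] sectModEt M T.left where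
  toFun := res M h.left
  map_add' := map_add _
  map_smul' a x := by
    change res M h.left (rmap U.hom a • x) = rmap T.hom a • res M h.left x
    rw [res_smul, ← rmap_comp, Over.w h]

@[simp] theorem resT_apply {T U : Over E} (h : T ⟶ U) (x : sectModEt M U.left) :
    resT M h x = res M h.left x := rfl

theorem isBC_iff (T : Over E) : IsBC M T.hom ↔ IsBaseChange (Fn T.left) (res₀ M T) := Iff.rfl

/-- The fibre product of two objects over `E`, over the first. -/
def bx (T U : Over E) : Over E := Over.mk (EtOver.pullbackFst T.hom U.hom ≫ T.hom)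

/-- Its projection to the first factor. -/
def bxFst (T U : Over E) : bx T U ⟶ T := Over.homMk (EtOver.pullbackFst T.hom U.hom) rfl

/-- Its projection to the second factor. -/
def bxSnd (T U : Over E) : bx T U ⟶ U :=
  Over.homMk (EtOver.pullbackSnd T.hom U.hom) (EtOver.pullback_condition T.hom U.hom).symm

theorem isPullback_bx (T U : Over E) : IsPullback (bxFst T U).left (bxSnd T U).left T.hom U.hom :=
  EtOver.isPullback T.hom U.hom

theorem isPullback_bx_scheme (T U : Over E) :
    IsPullback (bxFst T U).left.hom.left.left (bxSnd T U).left.hom.left.left T.hom.hom.left.left U.hom.hom.left.left :=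
  (isPullback_bx T U).map (EtOver.toScheme X)

/-- A pair of maps to the factors. -/
def bxLift {T U P : Over E} (a : P ⟶ T) (b : P ⟶ U) : P ⟶ bx T U :=
  Over.homMk ((isPullback_bx T U).lift a.left b.left ((Over.w a).trans (Over.w b).symm)) (by
    change (isPullback_bx T U).lift _ _ _ ≫ (bxFst T U).left ≫ T.hom = P.hom
    rw [← Category.assoc, (isPullback_bx T U).lift_fst, Over.w a])

theorem bxLift_fst {T U P : Over E} (a : P ⟶ T) (b : P ⟶ U) : bxLift a b ≫ bxFst T U = a :=
  Over.OverMorphism.ext ((isPullback_bx T U).lift_fst _ _ _)

theorem bxLift_snd {T U P : Over E} (a : P ⟶ T) (b : P ⟶ U) : bxLift a b ≫ bxSnd T U = b :=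
  Over.OverMorphism.ext ((isPullback_bx T U).lift_snd _ _ _)

theorem aff_bx {T U : Over E} (hE : Aff E) (hT : Aff T.left) (hU : Aff U.left) : Aff (bx T U).left := by
  have : IsAffine T.left.obj.left.left := hT
  have : IsAffine U.left.obj.left.left := hU
  have : IsAffine E.obj.left.left := hE
  exact IsAffine.of_isPullback (isPullback_bx_scheme T U)

/-- Functions of a fibre product over those of the first factor. -/
scoped instance algBx (T U : Over E) : Algebra (Fn T.left) (Fn (bx T U).left) := algOf (bxFst T U).left

/-- Sections over a fibre product as a module over the functions of the first factor. -/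
scoped instance modBx (T U : Over E) : Module (Fn T.left) (sectModEt M (bx T U).left) :=
  modOf M (bxFst T U).left

scoped instance towerBx (T U : Over E) : IsScalarTower (Fn E) (Fn T.left) (sectModEt M (bx T U).left) :=
  IsScalarTower.of_algebraMap_smul fun _ _ => rfl

scoped instance towerFnBx (T U : Over E) : IsScalarTower (Fn E) (Fn T.left) (Fn (bx T U).left) :=
  IsScalarTower.of_algebraMap_eq fun _ => rfl

theorem isBaseChange_bx {T U : Over E} (hE : Aff E) (hT : Aff T.left) (hU : Aff U.left)
    (h : IsBC M (bxSnd T U).left) : IsBaseChange (Fn T.left) (resT M (bxSnd T U)) := by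
  letI := algOf (bxSnd T U).left
  letI := modOf M (bxSnd T U).left
  haveI := towerOf M (bxSnd T U).left
  haveI : IsScalarTower (Fn E) (Fn T.left) (Fn (bx T U).left) :=
    IsScalarTower.of_algebraMap_eq fun a => rfl
  haveI : IsScalarTower (Fn E) (Fn U.left) (Fn (bx T U).left) :=
    IsScalarTower.of_algebraMap_eq fun a => by
      change rmap (bx T U).hom a = rmap (bxSnd T U).left (rmap U.hom a)
      rw [← rmap_comp, Over.w (bxSnd T U)]
  haveI : IsScalarTower (Fn T.left) (Fn (bx T U).left) (sectModEt M (bx T U).left) := towerOf M (bxFst T U).left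
  haveI : IsScalarTower (Fn E) (Fn U.left) (sectModEt M (bx T U).left) :=
    IsScalarTower.of_algebraMap_smul fun a x => by
      change rmap (bxSnd T U).left (rmap U.hom a) • x = rmap (bx T U).hom a • x
      rw [← rmap_comp, Over.w (bxSnd T U)]
  haveI : Algebra.IsPushout (Fn E) (Fn T.left) (Fn U.left) (Fn (bx T U).left) := by
    have : IsAffine T.left.obj.left.left := hT
    have : IsAffine U.left.obj.left.left := hU
    have : IsAffine E.obj.left.left := hE
    exact CommRingCat.isPushout_iff_isPushout.1 (isPushout_appTop_of_isPullback (isPullback_bx_scheme T U))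
  have e : resT M (bxSnd T U) = (resL M (bxSnd T U).left).restrictScalars (Fn E) :=
    LinearMap.ext fun x => rfl
  rw [e]
  exact isBaseChange_of_pushout (resL M (bxSnd T U).left) h

theorem flat_over {T : Over E} (hE : Aff E) (hT : Aff T.left) : Module.Flat (Fn E) (Fn T.left) := by
  have : IsAffine T.left.obj.left.left := hT
  have : IsAffine E.obj.left.left := hE
  have := EtOver.etale_left T.hom
  exact Scheme.Hom.flat_appTop T.hom.hom.left.left

end over

end Groth.Agent.QCart13

end
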